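import Cfsg.Agent.H7.Ex.Grp

/-! Extensions of permutation groups by submodules of the binary permutation module. -/

set_option autoImplicit false

namespace CfsgH7.Ex

open Subgroup

universe u

theorem lv_any {Γ : Type u} {G : Type} [Group Γ] [Group G] {k N M a : Nat} {R : List (List Nat)}
    (h : Lv.{u} k R N M a) {g : Nat → G} (hs : Sat g R) (hN : N ≤ Nat.card (genW g (gensW k))) {σ : Γ →* G}
    (E : CE σ M) : Sp σ (genW g (gensW k)) a := by
  let e : ULift.{u} G ≃* G := MulEquiv.ulift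
  have k1 : (e.symm.toMonoidHom.comp σ).ker = σ.ker := by
    ext x; simp [MonoidHom.mem_ker]
  obtain ⟨B, h1, h2⟩ := h (ULift.{u} G) (fun j => e.symm.toMonoidHom (g j))
    (fun r hr => by rw [← map_wprod, hs r hr, map_one])
    (by rw [← genW_map, card_map_of_injective e.symm.injective]; exact hN) Γ (e.symm.toMonoidHom.comp σ)
    ⟨E.fin, e.symm.surjective.comp E.surj, k1 ▸ E.cen, k1 ▸ E.exp⟩
  refine ⟨B, ?_, k1 ▸ h2⟩
  rw [← map_map, ← genW_map] at h1
  exact map_injective e.symm.injective h1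

theorem gen_mem {G : Type*} [Group G] (g : Nat → G) {k j : Nat} (h : j < k) : g j ∈ genW g (gensW k) := by
  have := mem_genW g (List.mem_map_of_mem (f := fun k => [2 * k]) (List.mem_range.2 h))
  rwa [wprod_cons, wprod_nil, mul_one, letter_even] at this

theorem tails {Γ : Type u} {G H : Type} [Group Γ] [Group G] [Group H] [Finite H] {σ : Γ →* G} (E : CE σ 2)
    {k N : Nat} {R : List (List Nat)} (hp : Pr.{u} k R N) (hl : Lv.{u} k R N 72 12) {g : Nat → G} (hs : Sat g R)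
    (hg : genW g (gensW k) = ⊤) (hN : N ≤ Nat.card G) {δ : Nat → H} {ζ : H} (hc : ∀ j, Commute (δ j) ζ)
    (h4 : orderOf ζ = 4) (hR : ∀ r ∈ R, wprod δ r ∈ zpowers ζ) (hk : ∀ j, k ≤ j → g j = 1 ∧ δ j = 1)
    {v : List Nat} (hv : bal k 72 v = true) (hv2 : wprod δ v = ζ) (hv3 : wprod g v = 1) :
    ∃ (γ : Nat → Γ) (η : Γ), σ η = 1 ∧ (∀ j, σ (γ j) = g j) ∧
      ∀ w, wprod g w = 1 → ∃ m : Nat, wprod δ w = ζ ^ m ∧ wprod γ w = η ^ m := by
  have := E.fin
  have hN' : N ≤ Nat.card (genW g (gensW k)) := by rwa [hg, card_top]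
  have : ∀ j, ∃ c, σ c = g j ∧ (k ≤ j → c = 1) := fun j => by
    by_cases h : k ≤ j
    · exact ⟨1, by rw [map_one, (hk j h).1], fun _ => rfl⟩
    · exact (E.surj (g j)).imp fun c hc => ⟨hc, fun h' => absurd h' h⟩
  choose γ0 e0 e1 using this
  let A : Subgroup (Γ × H) := σ.ker.prod (zpowers ζ)
  let y : Nat → Γ × H := fun j => (γ0 j, δ j)
  let L := A ⊔ genW y (gensW k)
  have cy : ∀ j, y j ∈ centralizer (A : Set (Γ × H)) := by
    rintro j ⟨a, b⟩ ⟨h1, i, rfl⟩
    exact Prod.ext (mem_center_iff.1 (E.cen h1) _).symm ((hc j).zpow_right i).eq.symm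
  have cL : L ≤ centralizer (A : Set (Γ × H)) := by
    refine sup_le ?_ (genW_le.2 fun w _ => wprod_mem fun _ _ => cy _)
    rintro ⟨a', b'⟩ ⟨-, i', rfl⟩ ⟨a, b⟩ ⟨h1, i, rfl⟩
    exact Prod.ext (mem_center_iff.1 (E.cen h1) _).symm ((Commute.refl ζ).zpow_zpow i i').eq
  let ρ := σ.comp (MonoidHom.fst Γ H)
  have ey : (fun j => ρ (y j)) = g := funext e0
  have kA : ∀ x : L, ρ x = 1 → x.1 ∈ A := fun x hx =>
    core hp (fun j => centralizer_le_normalizer _ (cy j)) ρ (fun a ha => ha.1) (fun r hr => by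
      rw [wprod_prod]
      exact ⟨show σ (wprod γ0 r) = 1 by rw [map_wprod, funext e0]; exact hs r hr, hR r hr⟩)
      (by rw [ey]; exact hN') x.2 hx
  have yL : ∀ j, y j ∈ L := fun j => by
    by_cases h : k ≤ j
    · rw [show y j = 1 from Prod.ext (e1 j h) (hk j h).2]; exact one_mem _
    · exact mem_sup_right (gen_mem y (not_le.1 h))
  let σL := ρ.comp L.subtype
  let s := (MonoidHom.snd Γ H).comp L.subtype
  have E' : CE σL 72 := ⟨inferInstance, fun x => by
      have : x ∈ (genW y (gensW k)).map ρ := by rw [genW_map, ey, hg]; trivial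
      obtain ⟨a, ha, e⟩ := this
      exact ⟨⟨a, mem_sup_right ha⟩, e⟩,
    fun c hc => mem_center_iff.2 fun b => Subtype.ext (cL b.2 _ (kA c hc)).symm, fun c hc => by
      obtain ⟨h1, i, h2⟩ := kA c hc
      refine Subtype.ext (Prod.ext ?_ ?_)
      · show c.1.1 ^ (2 * 36) = 1
        rw [pow_mul, E.exp _ h1, one_pow]
      · show c.1.2 ^ (4 * 18) = 1
        have : (ζ ^ i) ^ 4 = 1 := by
          rw [← zpow_natCast, ← zpow_mul, mul_comm, zpow_mul, zpow_natCast, ← h4, pow_orderOf_eq_one, one_zpow]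
        rw [← h2, pow_mul, this, one_pow]⟩
  obtain ⟨B, h1, h2⟩ := lv_any hl hs hN' E'
  choose b0 m0 f0 using fun j => (show g j ∈ B.map σL by rw [h1, hg]; trivial)
  have z1 : wprod b0 v ∈ B := wprod_mem fun _ _ => m0 _
  have z2 : σL (wprod b0 v) = 1 := by rw [map_wprod, funext f0, hv3]
  have z3 : s (wprod b0 v) = ζ := by
    rw [E'.bal (γ' := fun j => ⟨y j, yL j⟩) (fun j => (f0 j).trans (e0 j).symm) hv, map_wprod]
    exact hv2
  have inj : ∀ b ∈ B, σL b = 1 → s b = 1 → b = 1 := fun b hb k1 k2 => by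
    by_contra hne
    have c := card_map_mul s (σL.ker ⊓ B)
    have c1 : 4 ∣ Nat.card ((σL.ker ⊓ B).map s) := h4 ▸ Subgroup.orderOf_dvd_natCard _ ⟨_, ⟨z2, z1⟩, z3⟩
    have c2 : 2 ∣ Nat.card (s.ker ⊓ (σL.ker ⊓ B) : Subgroup L) := by
      have : orderOf b = 2 := orderOf_eq_prime (Subtype.ext (Prod.ext (E.exp _ k1) (by
        show (s b) ^ 2 = 1
        rw [k2, one_pow]))) hne
      exact this ▸ Subgroup.orderOf_dvd_natCard _ ⟨k2, k1, hb⟩
    have := (Nat.mul_dvd_mul c1 c2).trans (c ▸ h2)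
    omega
  have : ∀ j, ∃ b ∈ B, σL b = g j ∧ s b = δ j := fun j => by
    obtain ⟨-, i, h⟩ := kA (b0 j * (⟨y j, yL j⟩ : L)⁻¹) (by
      show σL (b0 j * (⟨y j, yL j⟩ : L)⁻¹) = 1
      rw [map_mul, map_inv, f0, mul_inv_eq_one]; exact (e0 j).symm)
    refine ⟨(wprod b0 v ^ i)⁻¹ * b0 j, mul_mem (inv_mem (zpow_mem z1 i)) (m0 j), ?_, ?_⟩
    · rw [map_mul, map_inv, map_zpow, z2, one_zpow, inv_one, one_mul, f0]
    · rw [map_mul, map_inv, map_zpow, z3, inv_mul_eq_iff_eq_mul, ← mul_inv_eq_iff_eq_mul]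
      exact h.symm
  choose b mb fb sb using this
  refine ⟨fun j => (b j).1.1, (wprod b0 v).1.1, z2, fb, fun w hw => ?_⟩
  have w1 : σL (wprod b w) = 1 := by rw [map_wprod, funext fb, hw]
  have w2 : s (wprod b w) = wprod δ w := by rw [map_wprod, funext sb]
  obtain ⟨m, hm⟩ := mem_powers_iff_mem_zpowers.2 (kA _ w1).2
  have hm' : s (wprod b w) = ζ ^ m := hm.symm
  refine ⟨m, w2 ▸ hm', ?_⟩
  have := inj (wprod b w * (wprod b0 v ^ m)⁻¹) (mul_mem (wprod_mem fun _ _ => mb _) (inv_mem (pow_mem z1 m)))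
    (by rw [map_mul, map_inv, map_pow, w1, z2, one_pow, inv_one, one_mul])
    (by rw [map_mul, map_inv, map_pow, z3, hm', mul_inv_cancel])
  rw [mul_inv_eq_one] at this
  exact (map_wprod ((MonoidHom.fst Γ H).comp L.subtype) b w).symm.trans (by rw [this, map_pow]; rfl)

variable {α : Type} {E : Type u} [Group E] {π : E →* Equiv.Perm α} {ψ : E → α → ZMod 2}

/-- An extension by a submodule of the permutation module. -/
structure Ex2 (π : E →* Equiv.Perm α) (ψ : E → α → ZMod 2) : Prop where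
  add : ∀ a b, π a = 1 → π b = 1 → ψ (a * b) = ψ a + ψ b
  conj : ∀ e n, π n = 1 → ψ (e * n * e⁻¹) = ψ n ∘ ⇑(π e)⁻¹

theorem Ex2.one (X : Ex2 π ψ) : ψ 1 = 0 := by
  have := X.add 1 1 (map_one π) (map_one π)
  rwa [mul_one, left_eq_add] at this

theorem Ex2.inv (X : Ex2 π ψ) {n : E} (h : π n = 1) (p : α) : ψ n⁻¹ p = ψ n p := by
  have := congrFun (X.add n⁻¹ n (by rw [map_inv, h, inv_one]) h) p
  rw [inv_mul_cancel, X.one] at this
  exact z23 this.symm

theorem Ex2.pow (X : Ex2 π ψ) {n : E} (h : π n = 1) (p : α) (m : Nat) : ψ (n ^ m) p = m * ψ n p := by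
  induction m with
  | zero => simp [X.one]
  | succ m ih => rw [pow_succ, X.add _ _ (by rw [map_pow, h, one_pow]) h, Pi.add_apply, ih]; push_cast; ring

theorem Ex2.tails (X : Ex2 π ψ) [Finite E] (p : α) {H : Type} [Group H] [Finite H]
    {k N : Nat} {R : List (List Nat)} (hp : Pr.{u} k R N) (hl : Lv.{u} k R N 72 12) {g : Nat → Equiv.Perm α}
    (hs : Sat g R) (hN : N ≤ Nat.card (genW g (gensW k))) (hr : genW g (gensW k) ≤ π.range)
    (hd : ∀ x ∈ genW g (gensW k), x p = p) {δ : Nat → H} {ζ : H} (hc : ∀ j, Commute (δ j) ζ)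
    (h4 : orderOf ζ = 4) (hR : ∀ r ∈ R, wprod δ r ∈ zpowers ζ) (hk : ∀ j, k ≤ j → g j = 1 ∧ δ j = 1)
    {v : List Nat} (hv : bal k 72 v = true) (hv2 : wprod δ v = ζ) (hv3 : wprod g v = 1) :
    ∃ (e : Nat → E) (ε : ZMod 2), (∀ j, π (e j) = g j) ∧
      ∀ w, wprod g w = 1 → ∃ m : Nat, wprod δ w = ζ ^ m ∧ ψ (wprod e w) p = m * ε := by
  set G := genW g (gensW k) with hG
  let E0 := G.comap π
  have pc : ∀ (e : E0) n, π n = 1 → ψ (e * n * (e : E)⁻¹) p = ψ n p := fun e n h => by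
    rw [X.conj _ _ h, Function.comp_apply, hd _ (G.inv_mem e.2)]
  let K : Subgroup E0 :=
    { carrier := {e | π e = 1 ∧ ψ e p = 0}
      one_mem' := ⟨map_one π, congrFun X.one p⟩
      mul_mem' := fun {a b} ha hb => ⟨by rw [coe_mul, map_mul, ha.1, hb.1, one_mul], by
        rw [coe_mul, X.add _ _ ha.1 hb.1, Pi.add_apply, ha.2, hb.2, add_zero]⟩
      inv_mem' := fun {a} ha => ⟨by rw [coe_inv, map_inv, ha.1, inv_one], (X.inv ha.1 p).trans ha.2⟩ }
  have : K.Normal := ⟨fun a ha e => ⟨by simp [ha.1], (pc e a ha.1).trans ha.2⟩⟩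
  let σ : E0 ⧸ K →* G := QuotientGroup.lift K (π.subgroupComap G) fun a ha => Subtype.ext ha.1
  have sj : Function.Surjective σ := fun x => by
    obtain ⟨e, he⟩ := hr x.2
    exact ⟨QuotientGroup.mk ⟨e, by rw [mem_comap, he]; exact x.2⟩, Subtype.ext he⟩
  have CE0 : CE σ 2 := ⟨inferInstance, sj, fun c hc => by
      obtain ⟨n, rfl⟩ := QuotientGroup.mk_surjective c
      have hn : π n = 1 := congrArg Subtype.val hc
      refine mem_center_iff.2 fun b => ?_
      obtain ⟨e, rfl⟩ := QuotientGroup.mk_surjective b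
      rw [← QuotientGroup.mk_mul, ← QuotientGroup.mk_mul, QuotientGroup.eq]
      refine ⟨by simp [hn], ?_⟩
      have : (((e * n)⁻¹ * (n * e) : E0) : E) = (n : E)⁻¹ * ((e⁻¹ : E0) * n * ((e⁻¹ : E0) : E)⁻¹) := by simp [mul_assoc]
      rw [this, X.add _ _ (by simp [hn]) (by simp [hn]), Pi.add_apply, X.inv hn, pc _ _ hn, z22], fun c hc => by
      obtain ⟨n, rfl⟩ := QuotientGroup.mk_surjective c
      have hn : π n = 1 := congrArg Subtype.val hc
      rw [sq, ← QuotientGroup.mk_mul, QuotientGroup.eq_one_iff]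
      exact ⟨by simp [hn], by rw [coe_mul, X.add _ _ hn hn, Pi.add_apply, z22]⟩⟩
  have hg : ∀ j, g j ∈ G := fun j => by
    by_cases h : k ≤ j
    · rw [(hk j h).1]; exact one_mem _
    · exact gen_mem g (not_le.1 h)
  let g' : Nat → G := fun j => ⟨g j, hg j⟩
  have ew : ∀ w, (wprod g' w : G).1 = wprod g w := fun w => map_wprod G.subtype g' w
  obtain ⟨γ, η, h1, h2, h3⟩ := Ex.tails CE0 hp hl (g := g') (fun r hr => Subtype.ext ((ew r).trans (hs r hr)))
    (map_injective G.subtype_injective (by rw [genW_map, ← MonoidHom.range_eq_map, range_subtype]; rfl)) hN hc h4 hR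
    (fun j h => ⟨Subtype.ext (hk j h).1, (hk j h).2⟩) hv hv2 (Subtype.ext ((ew v).trans hv3))
  choose e he using fun j => QuotientGroup.mk'_surjective K (γ j)
  obtain ⟨n, rfl⟩ := QuotientGroup.mk'_surjective K η
  have hn : π n = 1 := congrArg Subtype.val h1
  refine ⟨fun j => e j, ψ n p, fun j => congrArg Subtype.val ((congrArg σ (he j)).trans (h2 j)), fun w hw => ?_⟩
  obtain ⟨m, k1, k2⟩ := h3 w (Subtype.ext ((ew w).trans hw))
  refine ⟨m, k1, ?_⟩
  rw [← funext he, ← map_wprod, ← map_pow, eq_comm] at k2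
  obtain ⟨k3, k4⟩ := QuotientGroup.eq.1 k2
  have hm : π ((n : E) ^ m) = 1 := by rw [map_pow, hn, one_pow]
  have : wprod (fun j => (e j : E)) w = (n : E) ^ m * ((n ^ m)⁻¹ * wprod e w : E0) := by
    refine (map_wprod E0.subtype e w).symm.trans ?_
    simp
  rw [this, X.add _ _ hm k3, Pi.add_apply, k4, add_zero, X.pow hn]

/-- Two elements over the same stabiliser element, with the value of their quotient. -/
def Al (π : E →* Equiv.Perm α) (ψ : E → α → ZMod 2) (p : α) (s t : E) (v : ZMod 2) : Prop :=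
  π s = π t ∧ π t p = p ∧ ψ (s * t⁻¹) p = v

theorem Ex2.mul (X : Ex2 π ψ) {p : α} {s t s' t' : E} {v v' : ZMod 2} (h : Al π ψ p s t v) (h' : Al π ψ p s' t' v') :
    Al π ψ p (s * s') (t * t') (v + v') := by
  refine ⟨by rw [map_mul, map_mul, h.1, h'.1], by rw [map_mul, Equiv.Perm.mul_apply, h'.2.1, h.2.1], ?_⟩
  have : s * s' * (t * t')⁻¹ = s * t⁻¹ * (t * (s' * t'⁻¹) * t⁻¹) := by group
  rw [this, X.add _ _ (by simp [h.1]) (by simp [h'.1]), X.conj _ _ (by simp [h'.1]), Pi.add_apply, h.2.2,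
    Function.comp_apply, Equiv.Perm.inv_eq_iff_eq.2 h.2.1.symm, h'.2.2]

theorem Ex2.inv' (X : Ex2 π ψ) {p : α} {s t : E} {v : ZMod 2} (h : Al π ψ p s t v) : Al π ψ p s⁻¹ t⁻¹ v := by
  have h0 : Al π ψ p s⁻¹ t⁻¹ _ :=
    ⟨by rw [map_inv, map_inv, h.1], by rw [map_inv]; exact Equiv.Perm.inv_eq_iff_eq.2 h.2.1.symm, rfl⟩
  have := (X.mul h h0).2.2
  rw [mul_inv_cancel, mul_inv_cancel, mul_inv_cancel, X.one] at this
  rwa [← z23 this.symm] at h0

/-- The word in the subgroup generators along a walk. -/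
noncomputable def ww (q : Nat → Nat → Nat) (SW : Nat → Nat → List Nat) (w : List Nat) : Nat → List Nat :=
  List.rec (motive := fun _ => Nat → List Nat) (fun _ => [])
    (fun y _ ih a => force (q y a) fun b => (if y % 2 = 0 then SW (y / 2) a else winv (SW (y / 2) b)) ++ ih b) w

/-- The end of a walk. -/
noncomputable def en (q : Nat → Nat → Nat) (w : List Nat) : Nat → Nat :=
  List.rec (motive := fun _ => Nat → Nat) (fun a => a) (fun y _ ih a => force (q y a) ih) w

theorem Ex2.walk (X : Ex2 π ψ) {p : α} {T x e : Nat → E} {q : Nat → Nat → Nat} {SW : Nat → Nat → List Nat} {k n : Nat}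
    (he : ∀ i, π (e i) p = p) (cl : ∀ y < 2 * k, ∀ a < n, q y a < n)
    (hq : ∀ j < k, ∀ a < n, q (2 * j) (q (2 * j + 1) a) = a)
    (hS : ∀ j < k, ∀ a < n, π ((T a)⁻¹ * x j * T (q (2 * j) a)) = π (wprod e (SW j a))) {w : List Nat}
    (hw : ∀ y ∈ w, y < 2 * k) {a : Nat} (ha : a < n) :
    Al π ψ p ((T a)⁻¹ * wprod x w * T (en q w a)) (wprod e (ww q SW w a))
      (ws q (fun j a => ψ ((T a)⁻¹ * x j * T (q (2 * j) a) * (wprod e (SW j a))⁻¹) p) w a) := by
  have h1 : ∀ j < k, ∀ a < n, Al π ψ p ((T a)⁻¹ * x j * T (q (2 * j) a)) (wprod e (SW j a)) _ := fun j hj a ha =>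
    ⟨hS j hj a ha, by
      rw [map_wprod]
      exact wprod_mem (g := fun i => π (e i)) (K := MulAction.stabilizer (Equiv.Perm α) p) fun _ _ => he _, rfl⟩
  induction w generalizing a with
  | nil => exact ⟨by simp [en, ww], by simp [ww], by simp [en, ww, ws, X.one]⟩
  | cons y w ih =>
    have hy := hw y (by simp)
    have i := ih (fun z hz => hw z (by simp [hz])) (cl y hy a ha)
    have e1 : en q (y :: w) a = en q w (q y a) := force_eq _ _
    have e2 : ww q SW (y :: w) a =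
      (if y % 2 = 0 then SW (y / 2) a else winv (SW (y / 2) (q y a))) ++ ww q SW w (q y a) :=
      force_eq (q y a) fun b => (if y % 2 = 0 then SW (y / 2) a else winv (SW (y / 2) b)) ++ ww q SW w b
    rw [e1, e2, wprod_append, ws, wprod_cons, letter]
    split_ifs with h
    · have := X.mul (h1 (y / 2) (by omega) a ha) i
      rw [show 2 * (y / 2) = y by omega] at this ⊢
      convert this using 1
      group
    · have := X.mul (X.inv' (h1 (y / 2) (by omega) _ (cl y hy a ha))) i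
      have e3 := hq (y / 2) (by omega) a ha
      rw [show 2 * (y / 2) + 1 = y by omega] at e3
      rw [wprod_winv]
      convert this using 1
      rw [e3]; group

end CfsgH7.Ex
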