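import Cfsg.Agent.H7.Ex.Lin
import Cfsg.Agent.H7.Mult3
import Cfsg.Agent.H7.Gol.Code

/-! Extensions of permutation groups by quotients of the binary permutation module. -/

set_option autoImplicit false

namespace CfsgH7.Ex

open Subgroup Gol
open scoped Pointwise

universe u v

theorem core {Γ : Type u} {G : Type*} [Group Γ] [Group G] {k N : Nat} {R : List (List Nat)} (hp : Pr.{u} k R N)
    {Δ : Subgroup Γ} {y : Nat → Γ} (hn : ∀ j, y j ∈ normalizer (Δ : Set Γ)) (ρ : Γ →* G) (hΔ : Δ ≤ ρ.ker)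
    (hR : ∀ r ∈ R, wprod y r ∈ Δ) (hN : N ≤ Nat.card (genW (fun j => ρ (y j)) (gensW k))) {h : Γ}
    (hh : h ∈ Δ ⊔ genW y (gensW k)) (h1 : ρ h = 1) : h ∈ Δ := by
  let F := normalizer (Δ : Set Γ)
  let y' : Nat → F := fun j => ⟨y j, hn j⟩
  let D := Δ.subgroupOf F
  let m := QuotientGroup.mk' D
  let ρ' : F ⧸ D →* G := QuotientGroup.lift D (ρ.comp F.subtype) fun x hx => hΔ hx
  have e : ∀ w, ((wprod y' w : F) : Γ) = wprod y w := fun w => map_wprod F.subtype y' w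
  have c := hp (F ⧸ D) (fun j => m (y' j)) fun r hr => by
    rw [← map_wprod]
    exact (QuotientGroup.eq_one_iff _).2 (by rw [mem_subgroupOf, e]; exact hR r hr)
  have i := inj_of_cardLe c ρ' (by rw [genW_map]; exact hN)
  have hle : Δ ⊔ genW y (gensW k) ≤ ((genW (fun j => m (y' j)) (gensW k)).comap m).map F.subtype := by
    refine sup_le (fun x hx => ⟨⟨x, le_normalizer hx⟩, ?_, rfl⟩) (genW_le.2 fun w hw => ⟨wprod y' w, ?_, e w⟩)
    · have : m ⟨x, le_normalizer hx⟩ = 1 := (QuotientGroup.eq_one_iff _).2 hx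
      rw [SetLike.mem_coe, mem_comap, this]; exact one_mem _
    · rw [SetLike.mem_coe, mem_comap, map_wprod]; exact mem_genW _ hw
  obtain ⟨x, hx, rfl⟩ := hle hh
  have := i (a₁ := ⟨m x, hx⟩) (a₂ := 1) (by rw [map_one]; exact h1)
  exact (QuotientGroup.eq_one_iff (N := D) x).1 (congrArg Subtype.val this)

theorem lv_split {Γ : Type u} {G : Type} [Group Γ] [Group G] {k N M : Nat} {R : List (List Nat)}
    (h : Lv.{u} k R N M 1) {g : Nat → G} (hs : Sat g R) (hN : N ≤ Nat.card (genW g (gensW k))) {σ : Γ →* G}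
    (E : CE σ M) : ∃ B : Subgroup Γ, B.map σ = genW g (gensW k) ∧ σ.ker ⊓ B = ⊥ := by
  let e : ULift.{u} G ≃* G := MulEquiv.ulift
  have k1 : (e.symm.toMonoidHom.comp σ).ker = σ.ker := by
    ext x; simp [MonoidHom.mem_ker]
  obtain ⟨B, h1, h2⟩ := h (ULift.{u} G) (fun j => e.symm.toMonoidHom (g j))
    (fun r hr => by rw [← map_wprod, hs r hr, map_one])
    (by rw [← genW_map, card_map_of_injective e.symm.injective]; exact hN) Γ (e.symm.toMonoidHom.comp σ)
    ⟨E.fin, e.symm.surjective.comp E.surj, k1 ▸ E.cen, k1 ▸ E.exp⟩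
  refine ⟨B, ?_, ?_⟩
  · rw [← map_map, ← genW_map] at h1
    exact map_injective e.symm.injective h1
  · rw [k1, Nat.dvd_one] at h2
    exact card_eq_one.1 h2

variable {α : Type} [Fintype α] [DecidableEq α]

/-- The pairing of a word with a set. -/
def pr (w : α → ZMod 2) (d : Finset α) : ZMod 2 := ∑ p, ind d p * w p

theorem pr_add (v w : α → ZMod 2) (d : Finset α) : pr (v + w) d = pr v d + pr w d := by
  simp only [pr, Pi.add_apply, mul_add, Finset.sum_add_distrib]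

theorem pr_zero (d : Finset α) : pr 0 d = 0 := by simp [pr]

theorem pr_smul (a : ZMod 2) (w : α → ZMod 2) (d : Finset α) : pr (a • w) d = a * pr w d := by
  simp only [pr, Pi.smul_apply, smul_eq_mul, Finset.mul_sum]
  exact Finset.sum_congr rfl fun _ _ => by ring

theorem pr_comp (σ : Equiv.Perm α) (w : α → ZMod 2) (d : Finset α) : pr (w ∘ ⇑σ⁻¹) (σ • d) = pr w d := by
  rw [pr, ind_smul]
  exact Equiv.sum_comp σ.symm fun p => ind d p * w p

theorem pr_comp' (σ : Equiv.Perm α) (w : α → ZMod 2) (d : Finset α) : pr (w ∘ ⇑σ⁻¹) d = pr w (σ⁻¹ • d) := by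
  rw [← pr_comp σ w, smul_inv_smul]

theorem z23 {a b : ZMod 2} : a + b = 0 → a = b := by revert a b; decide

theorem vv (w : α → ZMod 2) : w + w = 0 := funext fun p => z22 (w p)

variable {E : Type u} [Group E] {π : E →* Equiv.Perm α} {τ : (α → ZMod 2) → E}

/-- An extension by a quotient of the permutation module. -/
structure Ext (π : E →* Equiv.Perm α) (τ : (α → ZMod 2) → E) : Prop where
  add : ∀ v w, τ (v + w) = τ v * τ w
  conj : ∀ e w, τ (w ∘ ⇑(π e)⁻¹) = e * τ w * e⁻¹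
  ker : ∀ e, π e = 1 ↔ ∃ w, τ w = e

theorem Ext.zero (X : Ext π τ) : τ 0 = 1 := by
  have := X.add 0 0
  rwa [add_zero, left_eq_mul] at this

theorem Ext.inv (X : Ext π τ) (w : α → ZMod 2) : (τ w)⁻¹ = τ w :=
  inv_eq_of_mul_eq_one_right (by rw [← X.add, vv, X.zero])

theorem Ext.one (X : Ext π τ) (w : α → ZMod 2) : π (τ w) = 1 := (X.ker _).2 ⟨w, rfl⟩

theorem Ext.lift (X : Ext π τ) {a b : E} (h : π a = π b) : ∃ w, a = τ w * b := by
  obtain ⟨w, hw⟩ := (X.ker (a * b⁻¹)).1 (by rw [map_mul, map_inv, h, mul_inv_cancel])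
  exact ⟨w, by rw [hw, inv_mul_cancel_right]⟩

/-- A cocycle on a family of sets extending the pairing. -/
structure Coc (π : E →* Equiv.Perm α) (τ : (α → ZMod 2) → E) (O : Set (Finset α))
    (c : E → Finset α → ZMod 2) : Prop where
  mul : ∀ e f, ∀ d ∈ O, (π e)⁻¹ • d ∈ O → (π (e * f))⁻¹ • d ∈ O → c (e * f) d = c e d + c f ((π e)⁻¹ • d)
  tau : ∀ w, ∀ d ∈ O, c (τ w) d = pr w d

theorem Ext.comp (X : Ext π τ) [Finite E] {d0 : Finset α} (h0 : ∀ w, τ w = 1 → pr w d0 = 0) {k N : Nat}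
    {R : List (List Nat)} (hl : Lv.{u} k R N 72 1) {g : Nat → Equiv.Perm α} (hs : Sat g R)
    (hN : N ≤ Nat.card (genW g (gensW k))) (hr : genW g (gensW k) ≤ π.range)
    (hg : ∀ j, g j ∈ genW g (gensW k)) (hd : ∀ x ∈ genW g (gensW k), x • d0 = d0) :
    ∃ B : Subgroup E, B.map π = genW g (gensW k) ∧ ∀ w, τ w ∈ B ↔ pr w d0 = 0 := by
  set H := genW g (gensW k) with hH
  let E0 := H.comap π
  have t0 : ∀ w, τ w ∈ E0 := fun w => by rw [mem_comap, X.one]; exact one_mem _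
  have pc : ∀ (e : E0) w, pr (w ∘ ⇑(π e)⁻¹) d0 = pr w d0 := fun e w => by
    rw [pr_comp', hd _ (H.inv_mem e.2)]
  let K : Subgroup E0 :=
    { carrier := {e | ∃ w, pr w d0 = 0 ∧ τ w = e}
      one_mem' := ⟨0, pr_zero _, X.zero⟩
      mul_mem' := by
        rintro a b ⟨v, h1, h2⟩ ⟨w, h3, h4⟩
        exact ⟨v + w, by rw [pr_add, h1, h3, add_zero], by rw [X.add, h2, h4]; rfl⟩
      inv_mem' := by
        rintro a ⟨v, h1, h2⟩
        exact ⟨v, h1, by rw [← X.inv, h2]; rfl⟩ }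
  have : K.Normal := ⟨by
    rintro a ⟨v, h1, h2⟩ e
    exact ⟨_, (pc e v).trans h1, by rw [X.conj, h2]; rfl⟩⟩
  let σ : E0 ⧸ K →* H := QuotientGroup.lift K (π.subgroupComap H) (by
    rintro a ⟨v, -, h2⟩
    exact Subtype.ext (show π a = 1 by rw [← h2, X.one]))
  have ks : ∀ c ∈ σ.ker, ∃ w, c = QuotientGroup.mk ⟨τ w, t0 w⟩ := fun c hc => by
    obtain ⟨a, rfl⟩ := QuotientGroup.mk_surjective c
    obtain ⟨w, hw⟩ := (X.ker a).1 (congrArg Subtype.val hc)
    exact ⟨w, congrArg _ (Subtype.ext hw.symm)⟩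
  have sj : Function.Surjective σ := fun x => by
    obtain ⟨e, he⟩ := hr x.2
    exact ⟨QuotientGroup.mk ⟨e, by rw [mem_comap, he]; exact x.2⟩, Subtype.ext he⟩
  have CE0 : CE σ 72 := ⟨inferInstance, sj, fun c hc => by
      obtain ⟨w, rfl⟩ := ks c hc
      refine mem_center_iff.2 fun b => ?_
      obtain ⟨e, rfl⟩ := QuotientGroup.mk_surjective b
      rw [← QuotientGroup.mk_mul, ← QuotientGroup.mk_mul, QuotientGroup.eq]
      refine ⟨w + w ∘ ⇑(π (e⁻¹ : E0))⁻¹, by rw [pr_add, pc, z22], ?_⟩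
      rw [X.add, X.conj]
      simp [X.inv, mul_assoc], fun c hc => by
      obtain ⟨w, rfl⟩ := ks c hc
      have : (QuotientGroup.mk ⟨τ w, t0 w⟩ : E0 ⧸ K) ^ 2 = 1 := by
        rw [sq, ← QuotientGroup.mk_mul, QuotientGroup.eq_one_iff]
        exact ⟨0, pr_zero _, by rw [← vv w, X.add]; rfl⟩
      rw [show 72 = 2 * 36 from rfl, pow_mul, this, one_pow]⟩
  let g' : Nat → H := fun j => ⟨g j, hg j⟩
  have m1 : (genW g' (gensW k)).map H.subtype = H := genW_map _ _ _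
  obtain ⟨B, h1, h2⟩ := lv_split hl (g := g')
    (fun r hr => Subtype.ext ((map_wprod H.subtype g' r).trans (hs r hr)))
    (by rw [← card_map_of_injective H.subtype_injective, m1]; exact hN) CE0
  refine ⟨(B.comap (QuotientGroup.mk' K)).map E0.subtype, ?_, fun w => ⟨?_, fun h => ?_⟩⟩
  · rw [← m1, ← h1, ← map_comap_eq_self_of_surjective (QuotientGroup.mk'_surjective K) B, map_map, map_map, map_map,
      map_comap_eq_self_of_surjective (QuotientGroup.mk'_surjective K) B]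
    rfl
  · rintro ⟨a, ha, e⟩
    have h3 : QuotientGroup.mk' K a ∈ σ.ker ⊓ B :=
      ⟨Subtype.ext (show π a = 1 by rw [show (a : E) = τ w from e, X.one]), ha⟩
    rw [h2, mem_bot] at h3
    obtain ⟨v, h4, h5⟩ := (QuotientGroup.eq_one_iff a).1 h3
    have := h0 (w + v) (by rw [X.add, h5, ← show (a : E) = τ w from e, ← h5, ← X.add, vv, X.zero])
    rwa [pr_add, h4, add_zero] at this
  · refine ⟨⟨τ w, t0 w⟩, ?_, rfl⟩
    have : QuotientGroup.mk' K ⟨τ w, t0 w⟩ = 1 := (QuotientGroup.eq_one_iff _).2 ⟨w, h, rfl⟩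
    rw [SetLike.mem_coe, mem_comap, this]; exact one_mem _

theorem Ext.coc (X : Ext π τ) {d0 : Finset α} {B : Subgroup E} (hB : ∀ w, τ w ∈ B ↔ pr w d0 = 0)
    (hs : ∀ e, π e • d0 = d0 ↔ π e ∈ B.map π) {O : Set (Finset α)} (hO : ∀ d ∈ O, ∃ e, π e • d0 = d) :
    ∃ c, Coc π τ O c := by
  classical
  let χ : E → ZMod 2 := fun x => if x ∈ B then 0 else 1
  have h1 : ∀ w, ∀ b ∈ B, χ (τ w * b) = pr w d0 := fun w b hb => by
    simp only [χ, B.mul_mem_cancel_right hb, hB]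
    split_ifs with h
    · exact h.symm
    · exact ((z2 _).1 h).symm
  have h2 : ∀ x, π x • d0 = d0 → ∃ w, ∃ b ∈ B, x = τ w * b := fun x hx => by
    obtain ⟨b, hb, e⟩ := (hs x).1 hx
    obtain ⟨w, hw⟩ := X.lift e.symm
    exact ⟨w, b, hb, hw⟩
  have h3 : ∀ x y, π x • d0 = d0 → π y • d0 = d0 → χ (x * y) = χ x + χ y := fun x y hx hy => by
    obtain ⟨v, a, ha, rfl⟩ := h2 x hx
    obtain ⟨w, b, hb, rfl⟩ := h2 y hy
    have : τ v * a * (τ w * b) = τ (v + w ∘ ⇑(π a)⁻¹) * (a * b) := by rw [X.add, X.conj]; group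
    rw [this, h1 _ _ (B.mul_mem ha hb), h1 _ _ ha, h1 _ _ hb, pr_add, pr_comp', ← map_inv,
      (hs _).2 (mem_map_of_mem _ (B.inv_mem ha))]
  choose! T hT using hO
  have h4 : ∀ e, ∀ d ∈ O, (π e)⁻¹ • d ∈ O → π ((T d)⁻¹ * e * T ((π e)⁻¹ • d)) • d0 = d0 := fun e d hd he => by
    rw [map_mul, map_mul, mul_smul, mul_smul, hT _ he, smul_inv_smul, map_inv, inv_smul_eq_iff, hT d hd]
  refine ⟨fun e d => χ ((T d)⁻¹ * e * T ((π e)⁻¹ • d)), fun e f d hd he hf => ?_, fun w d hd => ?_⟩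
  · have e1 : (π (e * f))⁻¹ • d = (π f)⁻¹ • (π e)⁻¹ • d := by rw [map_mul, mul_inv_rev, mul_smul]
    rw [← h3 _ _ (h4 e d hd he) (h4 f _ he (e1 ▸ hf)), e1]
    congr 1; group
  · have := h1 (w ∘ ⇑(π (T d)⁻¹)⁻¹) 1 B.one_mem
    rw [X.conj, pr_comp', map_inv, inv_inv, inv_inv, hT d hd, mul_one] at this
    simpa only [X.one, inv_one, one_smul] using this

variable {O : Set (Finset α)} {c : E → Finset α → ZMod 2}

theorem Coc.one (C : Coc π τ O c) {d : Finset α} (hd : d ∈ O) : c 1 d = 0 := by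
  have := C.mul 1 1 d hd (by simpa using hd) (by simpa using hd)
  simpa using this

/-- A table for the action of the inverse letters on numbered sets. -/
structure Tab (g : Nat → Equiv.Perm α) (k : Nat) (O : Set (Finset α)) (D : Nat → Finset α) (q : Nat → Nat → Nat)
    (P : Nat → Prop) : Prop where
  mem : ∀ a, P a → D a ∈ O
  cl : ∀ y < 2 * k, ∀ a, P a → P (q y a)
  act : ∀ y < 2 * k, ∀ a, P a → (letter g y)⁻¹ • D a = D (q y a)

theorem Coc.walk (C : Coc π τ O c) {g : Nat → Equiv.Perm α} {k : Nat} {D : Nat → Finset α} {q : Nat → Nat → Nat}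
    {P : Nat → Prop} (T : Tab g k O D q P) {x : Nat → E} (hx : ∀ j, π (x j) = g j) {w : List Nat}
    (hw : ∀ y ∈ w, y < 2 * k) {a : Nat} (ha : P a) :
    (π (wprod x w))⁻¹ • D a ∈ O ∧ c (wprod x w) (D a) = ws q (fun j e => c (x j) (D e)) w a := by
  induction w generalizing a with
  | nil => exact ⟨by simpa using T.mem a ha, C.one (T.mem a ha)⟩
  | cons y w ih =>
    have hy := hw y (by simp)
    have e1 : (π (letter x y))⁻¹ • D a = D (q y a) := by
      rw [map_letter, funext hx]; exact T.act y hy a ha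
    obtain ⟨i1, i2⟩ := ih (fun z hz => hw z (by simp [hz])) (T.cl y hy a ha)
    have m := T.mem _ (T.cl y hy a ha)
    have e2 : (π (letter x y * wprod x w))⁻¹ • D a ∈ O := by rwa [map_mul, mul_inv_rev, mul_smul, e1]
    rw [wprod_cons]
    refine ⟨e2, ?_⟩
    rw [C.mul _ _ _ (T.mem a ha) (e1 ▸ m) e2, e1, i2, ws]
    congr 1
    unfold letter at e1 ⊢
    split_ifs at e1 ⊢
    · rfl
    · have := C.mul (x (y / 2))⁻¹ (x (y / 2)) _ (T.mem a ha) (e1 ▸ m) (by simpa using T.mem a ha)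
      rw [inv_mul_cancel, C.one (T.mem a ha), e1] at this
      exact z23 this.symm

theorem Coc.shift (C : Coc π τ O c) (X : Ext π τ) {g : Nat → Equiv.Perm α} {k : Nat} {D : Nat → Finset α}
    {q : Nat → Nat → Nat} {P : Nat → Prop} (T : Tab g k O D q P) {x : Nat → E} (hx : ∀ j, π (x j) = g j)
    (v : Nat → α → ZMod 2) {w : List Nat} (hw : ∀ y ∈ w, y < 2 * k) {a : Nat} (ha : P a) :
    c (wprod (fun j => τ (v j) * x j) w) (D a) = ws q (fun j e => pr (v j) (D e)) w a + c (wprod x w) (D a) := by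
  rw [(C.walk T (fun j => by rw [map_mul, X.one, one_mul, hx]) hw ha).2, (C.walk T hx hw ha).2, ← ws_add]
  refine ws_congr T.cl (fun j hj e he => ?_) hw ha
  have h1 : (π (x j))⁻¹ • D e ∈ O := by
    have := T.act (2 * j) (by omega) e he
    rw [letter_even] at this
    rw [hx, this]; exact T.mem _ (T.cl _ (by omega) e he)
  rw [C.mul _ _ _ (T.mem e he) (by simpa [X.one] using T.mem e he) (by simpa [X.one] using h1), C.tau _ _ (T.mem e he)]
  simp [X.one]

theorem Ext.split (X : Ext π τ) {k N : Nat} {R : List (List Nat)} (hp : Pr.{u} k R N) {x : Nat → E}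
    (hr : π.range = genW (fun j => π (x j)) (gensW k)) (hN : N ≤ Nat.card π.range) (hs : Sat x R) :
    ∃ H : Subgroup E, H ⊓ π.ker = ⊥ ∧ H ⊔ π.ker = ⊤ := by
  refine ⟨genW x (gensW k), eq_bot_iff.2 fun h hh => ?_, ?_⟩
  · exact core hp (Δ := ⊥) (fun j n => by simp) π bot_le (fun r h => hs r h) (hr ▸ hN)
      (mem_sup_right hh.1) hh.2
  · rw [← comap_map_eq, genW_map, ← hr]
    exact eq_top_iff.2 fun e _ => ⟨e, rfl⟩

theorem Ext.iso {E' : Type v} [Group E'] {π' : E' →* Equiv.Perm α} {τ' : (α → ZMod 2) → E'} (X : Ext π τ)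
    (X' : Ext π' τ') (h : ∀ w, τ w = 1 ↔ τ' w = 1) {k N : Nat} {R : List (List Nat)} (hp : Pr.{max u v} k R N)
    {g : Nat → Equiv.Perm α} {x : Nat → E} {x' : Nat → E'} (hx : ∀ j, π (x j) = g j) (hx' : ∀ j, π' (x' j) = g j)
    (hr : π.range = genW g (gensW k)) (hr' : π'.range = genW g (gensW k)) (hN : N ≤ Nat.card (genW g (gensW k)))
    (hR : ∀ r ∈ R, ∃ z, wprod x r = τ z ∧ wprod x' r = τ' z) : Nonempty (E ≃* E') := by
  let Δ : Subgroup (E × E') :=
    { carrier := Set.range fun w => (τ w, τ' w)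
      one_mem' := ⟨0, by simp only [X.zero, X'.zero]; rfl⟩
      mul_mem' := by
        rintro _ _ ⟨v, rfl⟩ ⟨w, rfl⟩
        exact ⟨v + w, by simp only [X.add, X'.add]; rfl⟩
      inv_mem' := by
        rintro _ ⟨v, rfl⟩
        exact ⟨v, by simp only [Prod.inv_mk, X.inv, X'.inv]⟩ }
  have cj : ∀ a : E × E', π a.1 = π' a.2 → ∀ n ∈ Δ, a * n * a⁻¹ ∈ Δ := by
    rintro a ha _ ⟨w, rfl⟩
    exact ⟨w ∘ ⇑(π a.1)⁻¹, Prod.ext (X.conj _ _) (by rw [ha]; exact X'.conj _ _)⟩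
  have hn : ∀ j, (x j, x' j) ∈ normalizer (Δ : Set (E × E')) := fun j n =>
    ⟨cj _ ((hx j).trans (hx' j).symm) n, fun hn => by
      have := cj (x j, x' j)⁻¹ (by simp [hx, hx']) _ hn
      rwa [show ∀ a b : E × E', a⁻¹ * (a * b * a⁻¹) * a⁻¹⁻¹ = b from fun a b => by group] at this⟩
  have hR' : ∀ r ∈ R, wprod (fun j => (x j, x' j)) r ∈ Δ := fun r hr => by
    obtain ⟨z, h1, h2⟩ := hR r hr
    exact ⟨z, by rw [wprod_prod, h1, h2]⟩
  let L := Δ ⊔ genW (fun j => (x j, x' j)) (gensW k)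
  have b1 : Function.Bijective ((MonoidHom.fst E E').comp L.subtype) := by
    refine ⟨(injective_iff_map_eq_one _).2 fun a ha => ?_, fun e => ?_⟩
    · obtain ⟨w, hw⟩ := core hp hn (π.comp (MonoidHom.fst E E')) (by rintro _ ⟨w, rfl⟩; exact X.one w) hR'
        (by simpa [hx] using hN) a.2 (by rw [MonoidHom.comp_apply, show MonoidHom.fst E E' a = 1 from ha, map_one])
      have h1 : τ w = 1 := (congrArg Prod.fst hw).trans ha
      exact Subtype.ext (by rw [← hw]; exact Prod.ext h1 ((h w).1 h1))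
    · have : π e ∈ (genW (fun j => (x j, x' j)) (gensW k)).map (π.comp (MonoidHom.fst E E')) := by
        rw [genW_map]; simp only [MonoidHom.comp_apply, MonoidHom.coe_fst, hx, ← hr]; exact ⟨e, rfl⟩
      obtain ⟨a, ha, e1⟩ := this
      obtain ⟨w, hw⟩ := X.lift (a := e) (b := a.1) e1.symm
      exact ⟨⟨(τ w, τ' w) * a, mul_mem (mem_sup_left ⟨w, rfl⟩) (mem_sup_right ha)⟩, hw.symm⟩
  have b2 : Function.Bijective ((MonoidHom.snd E E').comp L.subtype) := by
    refine ⟨(injective_iff_map_eq_one _).2 fun a ha => ?_, fun e => ?_⟩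
    · obtain ⟨w, hw⟩ := core hp hn (π'.comp (MonoidHom.snd E E')) (by rintro _ ⟨w, rfl⟩; exact X'.one w) hR'
        (by simpa [hx'] using hN) a.2 (by rw [MonoidHom.comp_apply, show MonoidHom.snd E E' a = 1 from ha, map_one])
      have h1 : τ' w = 1 := (congrArg Prod.snd hw).trans ha
      exact Subtype.ext (by rw [← hw]; exact Prod.ext ((h w).2 h1) h1)
    · have : π' e ∈ (genW (fun j => (x j, x' j)) (gensW k)).map (π'.comp (MonoidHom.snd E E')) := by
        rw [genW_map]; simp only [MonoidHom.comp_apply, MonoidHom.coe_snd, hx', ← hr']; exact ⟨e, rfl⟩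
      obtain ⟨a, ha, e1⟩ := this
      obtain ⟨w, hw⟩ := X'.lift (a := e) (b := a.2) e1.symm
      exact ⟨⟨(τ w, τ' w) * a, mul_mem (mem_sup_left ⟨w, rfl⟩) (mem_sup_right ha)⟩, hw.symm⟩
  exact ⟨(MulEquiv.ofBijective _ b1).symm.trans (MulEquiv.ofBijective _ b2)⟩

end CfsgH7.Ex
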