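import Cfsg.Agent.H7.Msk

/-! Linear forms over the field with two elements given by bit masks; sums along walks. -/

set_option autoImplicit false

namespace CfsgH7.Ex

open Finset

/-- A bit as a field element. -/
def bt (a i : Nat) : ZMod 2 := if a.testBit i then 1 else 0

theorem bt_xor (a b i : Nat) : bt (a ^^^ b) i = bt a i + bt b i := by
  unfold bt; rw [Nat.testBit_xor]
  cases a.testBit i <;> cases b.testBit i <;> decide

theorem bt_zero (i : Nat) : bt 0 i = 0 := by simp [bt]

theorem bt_sing (i j : Nat) : bt (sing i) j = if i = j then 1 else 0 := by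
  simp [bt, sing_testBit]

theorem bt_inj {a b n : Nat} (ha : a < 2 ^ n) (hb : b < 2 ^ n) (h : ∀ i < n, bt a i = bt b i) : a = b := by
  apply Nat.eq_of_testBit_eq
  intro i
  by_cases hi : i < n
  · have := h i hi
    unfold bt at this
    revert this
    cases a.testBit i <;> cases b.testBit i <;> decide
  · rw [Nat.testBit_lt_two_pow (ha.trans_le (Nat.pow_le_pow_right (by norm_num) (by omega))),
      Nat.testBit_lt_two_pow (hb.trans_le (Nat.pow_le_pow_right (by norm_num) (by omega)))]

theorem z22 (a : ZMod 2) : a + a = 0 := by revert a; decide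

/-- A map turning the exclusive or into the sum. -/
structure Ad {M : Type*} [AddCommGroup M] (φ : Nat → M) : Prop where
  zero : φ 0 = 0
  xor : ∀ a b, φ (a ^^^ b) = φ a + φ b

theorem Ad.comb {M : Type*} [AddCommGroup M] [Module (ZMod 2) M] {φ : Nat → M} (h : Ad φ) (L : List Nat) (c : Nat) :
    φ (comb L c) = ∑ k ∈ range L.length, bt c k • φ (nth L k) := by
  induction L generalizing c with
  | nil => exact h.zero
  | cons a L ih =>
    rw [comb_cons, h.xor, ih, List.length_cons, sum_range_succ', add_comm]
    congr 1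
    · refine sum_congr rfl fun k _ => ?_
      rw [nth_succ]; congr 1
      simp only [bt, Nat.testBit_shiftRight, add_comm]
    · rw [nth_zero]; unfold bt; split_ifs
      · rw [one_smul]
      · rw [zero_smul, h.zero]

theorem ad_bt (i : Nat) : Ad fun a => bt a i := ⟨bt_zero i, fun a b => bt_xor a b i⟩

/-- The value of a mask on a vector. -/
def dot (n : Nat) (u : Nat → ZMod 2) (m : Nat) : ZMod 2 := ∑ i ∈ range n, bt m i * u i

theorem ad_dot (n : Nat) (u : Nat → ZMod 2) : Ad (dot n u) :=
  ⟨by simp [dot, bt_zero], fun a b => by simp only [dot, bt_xor, add_mul, sum_add_distrib]⟩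

theorem dot_sing {n i : Nat} (u : Nat → ZMod 2) (h : i < n) : dot n u (sing i) = u i := by
  simp [dot, bt_sing, h]

theorem comb_lt {L : List Nat} {n : Nat} (h : lall (fun a => Nat.blt a (sing n)) L = true) (c : Nat) :
    comb L c < 2 ^ n :=
  comb_induction (φ := fun a => a < 2 ^ n) (by positivity) (fun _ _ => Nat.xor_lt_two_pow)
    (fun a ha => by simpa [Nat.blt_eq, sing, Nat.shiftLeft_eq] using lall_iff.1 h a ha) c

/-- The units from `o` on. -/
def un (o n : Nat) : List Nat := (List.range n).map fun k => sing (o + k)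

theorem dot_un {n o m : Nat} (u : Nat → ZMod 2) (h : o + m ≤ n) (a : Nat) :
    dot n u (comb (un o m) a) = ∑ k ∈ range m, bt a k * u (o + k) := by
  rw [(ad_dot n u).comb, un, List.length_map, List.length_range]
  refine sum_congr rfl fun k hk => ?_
  have := mem_range.1 hk
  rw [nth_map_range' _ this, dot_sing _ (by omega), smul_eq_mul]
where
  nth_map_range' (f : Nat → Nat) {k x : Nat} (h : x < k) : nth ((List.range k).map f) x = f x := by
    have : ∀ (L : List Nat) x (h : x < L.length), nth L x = L[x] := by
      intro L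
      induction L with
      | nil => simp
      | cons a L ih =>
        intro x h
        cases x with
        | zero => rfl
        | succ x => exact ih x (by simpa using h)
    rw [this _ _ (by simpa using h)]; simp

/-- The exclusive or of the values on the edges of a walk. -/
noncomputable def wx (q f : Nat → Nat → Nat) (w : List Nat) : Nat → Nat :=
  List.rec (motive := fun _ => Nat → Nat) (fun _ => nat_lit 0)
    (fun y _ ih a => force (q y a) fun b =>
      Nat.xor (f (Nat.shiftRight y (nat_lit 1)) (Bool.rec a b (tb y (nat_lit 0)))) (ih b)) w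

/-- The sum of the values on the edges of a walk. -/
def ws (q : Nat → Nat → Nat) (ε : Nat → Nat → ZMod 2) : List Nat → Nat → ZMod 2
  | [], _ => 0
  | y :: w, a => ε (y / 2) (if y % 2 = 0 then a else q y a) + ws q ε w (q y a)

theorem Ad.wx {φ : Nat → ZMod 2} (h : Ad φ) (q f : Nat → Nat → Nat) (w : List Nat) (a : Nat) :
    φ (wx q f w a) = ws q (fun j e => φ (f j e)) w a := by
  induction w generalizing a with
  | nil => exact h.zero
  | cons y w ih =>
    have e : Ex.wx q f (y :: w) a = force (q y a) fun b =>
      (f (y >>> 1) (Bool.rec a b (tb y 0))) ^^^ (Ex.wx q f w b) := rfl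
    rw [e, force_eq, h.xor, ih, ws, tb_eq, Nat.testBit_zero, Nat.shiftRight_one]
    rcases Nat.mod_two_eq_zero_or_one y with h | h <;> simp [h]

theorem ws_add (q : Nat → Nat → Nat) (ε ε' : Nat → Nat → ZMod 2) (w : List Nat) (a : Nat) :
    ws q (fun j e => ε j e + ε' j e) w a = ws q ε w a + ws q ε' w a := by
  induction w generalizing a with
  | nil => simp [ws]
  | cons y w ih => simp only [ws, ih]; ring

theorem ws_congr {q : Nat → Nat → Nat} {ε ε' : Nat → Nat → ZMod 2} {k : Nat} {P : Nat → Prop}
    (hq : ∀ y < 2 * k, ∀ a, P a → P (q y a)) (h : ∀ j < k, ∀ e, P e → ε j e = ε' j e) {w : List Nat}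
    (hw : ∀ y ∈ w, y < 2 * k) {a : Nat} (ha : P a) : ws q ε w a = ws q ε' w a := by
  induction w generalizing a with
  | nil => rfl
  | cons y w ih =>
    have hy := hw y (by simp)
    rw [ws, ws, ih (fun z hz => hw z (by simp [hz])) (hq y hy a ha), h _ (by omega)]
    split_ifs
    · exact ha
    · exact hq y hy a ha

/-- The points reached along a list of steps `8 a + y`. -/
noncomputable def bfl (q : Nat → Nat → Nat) (L : List Nat) : Nat → Nat :=
  List.rec (motive := fun _ => Nat → Nat) (fun S => S)
    (fun e _ ih S => force (Bool.rec S (Nat.lor S (sing (q (Nat.land e (nat_lit 7)) (Nat.shiftRight e (nat_lit 3)))))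
      (tb S (Nat.shiftRight e (nat_lit 3)))) ih) L

theorem bfl_spec {q : Nat → Nat → Nat} {P : Nat → Prop} (hq : ∀ y < 8, ∀ a, P a → P (q y a)) (L : List Nat) {S : Nat}
    (hS : ∀ a, S.testBit a = true → P a) : ∀ a, (bfl q L S).testBit a = true → P a := by
  induction L generalizing S with
  | nil => exact hS
  | cons e L ih =>
    have e1 : bfl q (e :: L) S = force (Bool.rec S (Nat.lor S (sing (q (Nat.land e 7) (e >>> 3)))) (tb S (e >>> 3)))
      (bfl q L) := rfl
    rw [e1, force_eq]
    refine ih ?_
    cases h : tb S (e >>> 3)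
    · exact hS
    · intro a ha
      rw [lor_testBit, sing_testBit, Bool.or_eq_true, decide_eq_true_eq] at ha
      rcases ha with ha | rfl
      · exact hS a ha
      · exact hq _ (Nat.lt_succ_of_le Nat.and_le_right) _ (hS _ (by rwa [tb_eq] at h))

/-- Map over a list. -/
noncomputable def lmp {α : Type} (f : α → Nat) (L : List α) (T : List Nat) : List Nat :=
  List.rec (motive := fun _ => List Nat) T (fun a _ ih => f a :: ih) L

theorem lmp_all {α : Type} {f : α → Nat} {L : List α} {T : List Nat} {P : Nat → Prop} (h : ∀ a ∈ L, P (f a))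
    (hT : ∀ a ∈ T, P a) : ∀ a ∈ lmp f L T, P a := by
  induction L with
  | nil => exact hT
  | cons b L ih =>
    intro a ha
    rcases List.mem_cons.1 (show a ∈ f b :: lmp f L T from ha) with rfl | ha
    · exact h b (by simp)
    · exact ih (fun c hc => h c (by simp [hc])) a ha

theorem Ad.comb0 {φ : Nat → ZMod 2} (h : Ad φ) {L : List Nat} (hL : ∀ a ∈ L, φ a = 0) (c : Nat) :
    φ (CfsgH7.comb L c) = 0 :=
  comb_induction (φ := fun a => φ a = 0) h.zero (fun a b ha hb => by rw [h.xor, ha, hb, add_zero]) hL c

end CfsgH7.Ex
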