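import Cfsg.Agent.H7.Ex.Grp
import Cfsg.Agent.H7.Mu.Math

/-! The action of the degree 23 group on the weight 12 words avoiding the extra point. -/

set_option autoImplicit false
set_option maxRecDepth 100000

namespace CfsgH7.Ex.M23

open Cfsg Subgroup Gol MulAction Finset
open scoped Pointwise

universe u

noncomputable def g (j : Nat) : Equiv.Perm GolayPt := wprod gp (wordAt U23 j)

theorem gen : genW g (gensW 4) = Spor.M23 := by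
  rw [← map23, ← genU23, genW_map]
  exact genW_wordAt gp U23

theorem card : Nat.card Spor.M23 = 10200960 := mdl23.2.1

def R : List (List Nat) := [[4,4],[6,6],[0,0,3,0,2],[0,0,0,0,0,2,1,3],[0,4,0,4,2,2,0,4,3],[0,3,6,1,3,6,0,6,3,6],[0,0,2,6,1,4,0,6,3,1,1,4],[0,0,2,2,4,2,0,4,3,4],[0,3,4,1,2,4,2,4,2,4],[0,0,2,6,4,6,0,6,0,4,2,4],[2,2,2,2,2]]

theorem sat : Sat g R := by
  have h : Sat gm (R.map (substW U23)) := base7.satP RP b7 (by decide +kernel)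
  refine Sat.sub (g := gp) fun r hr => ?_
  exact (map_wprod M24.subtype gm r).symm.trans (by rw [h r hr, map_one])

theorem sub {G : Type*} [Group G] {x : Nat → G} (h : Sat x R) : Sat x CfsgH7.M23.Rf := fun r hr =>
  h r ((by decide +kernel : ∀ r ∈ CfsgH7.M23.Rf, r ∈ R) r hr)

theorem prs : Pr.{u} 4 R 10200960 := fun G _ x h => CfsgH7.M23.pr G x (sub h)

theorem gmem (j : Nat) : g j ∈ Spor.M23 := by
  rw [← map23, ← genU23, genW_map]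
  exact wordAt_in (fun _ h => mem_genW gp h) j

theorem Rlt : ∀ r < 11, wordAt R r ∈ R ∧ ∀ y ∈ wordAt R r, y < 2 * 4 := by decide +kernel

theorem Rex : ∀ w ∈ R, ∃ r < 11, wordAt R r = w := by decide +kernel

/-- The word of a mask. -/
def wd (m : Nat) : GolayPt → ZMod 2 := ind (S m)

theorem ad_wd : Ad wd := ⟨by rw [wd, S_zero, ind_empty], fun a b => by
  rw [wd, wd, wd, ← ind_symmDiff, msk_symmDiff]; rfl⟩

theorem wd_ap (m : Nat) (p : GolayPt) : wd m p = bt m (ix p) := by simp [wd, ind, bt, mem_msk]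

theorem wd_sing (p : GolayPt) : wd (sing (ix p)) = Pi.single p 1 := by
  funext r
  rw [wd_ap, bt_sing, Pi.single_apply]
  exact if_congr ⟨fun h => by rw [← I.px_ix r, ← h, I.px_ix], fun h => by rw [h]⟩ rfl rfl

theorem ad_pr (w : GolayPt → ZMod 2) : Ad fun m => pr w (S m) :=
  ⟨by simp [pr, S_zero, ind_empty], fun a b => by
    have := ad_wd.xor a b
    simp only [wd] at this
    simp only [pr, this, Pi.add_apply, add_mul, sum_add_distrib]⟩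

theorem ad_pr' (d : Finset GolayPt) : Ad fun m => pr (wd m) d :=
  ⟨by rw [ad_wd.zero, pr_zero], fun a b => by rw [ad_wd.xor, pr_add]⟩

theorem pr_wd (a b : Nat) : pr (wd a) (S b) = (cnt 5 24 (Nat.land b a) : Nat) := by
  rw [← card_S, S, S, ← msk_inter, card_eq_sum_ite (subset_univ _), Nat.cast_sum]
  refine sum_congr rfl fun p _ => ?_
  simp only [wd, ind, mem_inter]
  by_cases h1 : p ∈ S a <;> by_cases h2 : p ∈ S b <;> simp [h1, h2]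

theorem pr_code {w : GolayPt → ZMod 2} (hw : w ∈ golayCode) {L : List Nat}
    (h : ∀ a ∈ BS, ∀ b ∈ L, ((cnt 5 24 (Nat.land b a) : Nat) : ZMod 2) = 0) (a : Nat) : pr w (S (comb L a)) = 0 := by
  obtain ⟨c, -, e⟩ := U_surj (supp_mem.2 hw)
  rw [← ind_supp w, ← e]
  exact (ad_pr _).comb0 (fun b hb => (ad_pr' _).comb0 (fun a ha => (pr_wd a b).trans (h a ha b hb)) c) a

theorem act_comb {σ : Equiv.Perm GolayPt} {L L' A : List Nat} (hl : A.length = L.length)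
    (h : ∀ k < L.length, σ • S (nth L k) = S (comb L' (nth A k))) (a : Nat) :
    σ • S (comb L a) = S (comb L' (comb A a)) := by
  have a1 : Ad fun m => ind (σ • S m) := ⟨by rw [S_zero, smul_finset_empty, ind_empty], fun a b => by
    rw [← ind_symmDiff, ← smul_finset_symmDiff, msk_symmDiff]; rfl⟩
  have a2 : Ad fun m => wd (comb L' m) := ⟨by
    have := comb_xor L' 0 0
    simp only [Nat.xor_self] at this
    rw [this, ad_wd.zero], fun a b => by rw [comb_xor, ad_wd.xor]⟩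
  rw [← supp_ind (σ • _), a1.comb, ← supp_ind (S (comb L' _))]
  congr 1
  refine Eq.trans ?_ (a2.comb A a).symm
  rw [hl]
  exact sum_congr rfl fun k hk => by rw [h k (mem_range.1 hk)]; rfl

def B : List Nat := [nat_lit 0x5335f, nat_lit 0x7dd00d, nat_lit 0x7ba01b, nat_lit 0x56f02b, nat_lit 0x3eb035, nat_lit 0x774037, nat_lit 0x1fb04e, nat_lit 0x2af08f, nat_lit 0x67b107, nat_lit 0x3f7403, nat_lit 0x7ee806]
def DU : List Nat := [nat_lit 0x200, nat_lit 0x2f8, nat_lit 0x759, nat_lit 0x569, nat_lit 0x4ce, nat_lit 0x187, nat_lit 0x240, nat_lit 0x80, nat_lit 0x300, nat_lit 0x400, nat_lit 0x475]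
def SY : List Nat := [nat_lit 0x3bf, nat_lit 0x7ed, nat_lit 0x5f3, nat_lit 0xcf, nat_lit 0x35, nat_lit 0x38, nat_lit 0x41, nat_lit 0x80, nat_lit 0x101, nat_lit 0x1, nat_lit 0x200, nat_lit 0x400, nat_lit 0x3db, nat_lit 0x7dd, nat_lit 0x6aa, nat_lit 0x5de, nat_lit 0x367, nat_lit 0x7fc, nat_lit 0x77b, nat_lit 0x6d6, nat_lit 0x67e, nat_lit 0x7b6, nat_lit 0x52e, nat_lit 0x0]
def AT : List (List Nat) := [[nat_lit 0x1, nat_lit 0x74e, nat_lit 0x738, nat_lit 0x328, nat_lit 0x550, nat_lit 0x378, nat_lit 0x46a, nat_lit 0x560, nat_lit 0x360, nat_lit 0x512, nat_lit 0x6e4], [nat_lit 0x1, nat_lit 0x1d4, nat_lit 0x286, nat_lit 0x2cc, nat_lit 0x3ec, nat_lit 0x37c, nat_lit 0x3c4, nat_lit 0x7be, nat_lit 0x3d8, nat_lit 0x260, nat_lit 0x3e0], [nat_lit 0x1, nat_lit 0x24a, nat_lit 0x228, nat_lit 0x23a, nat_lit 0x244, nat_lit 0x260, nat_lit 0x36c, nat_lit 0xca, nat_lit 0x40,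 nat_lit 0x608, nat_lit 0x278], [nat_lit 0x1, nat_lit 0x508, nat_lit 0x43e, nat_lit 0x124, nat_lit 0x504, nat_lit 0x40e, nat_lit 0x100, nat_lit 0x5ac, nat_lit 0x57a, nat_lit 0x52e, nat_lit 0x60a], [nat_lit 0x1, nat_lit 0x670, nat_lit 0x75f, nat_lit 0x1c1, nat_lit 0x7ab, nat_lit 0x2ea, nat_lit 0x531, nat_lit 0x73b, nat_lit 0x203, nat_lit 0x771, nat_lit 0x703], [nat_lit 0x1, nat_lit 0x670, nat_lit 0x75f, nat_lit 0x1c1, nat_lit 0x7ab, nat_lit 0x2ea, nat_lit 0x531, nat_lit 0x73b, nat_lit 0x203, nat_lit 0x771, nat_lit 0x703], [nat_lit 0x585, nat_lit 0x5e2, nat_lit 0x1bc, nat_lit 0x1d4, nat_lit 0x4e0, nat_lit 0x5a4, nat_lit 0x47c, nat_lit 0x4d8, nat_lit 0x5f0, nat_lit 0x2cc, nat_lit 0x510], [nat_lit 0x585, nat_lit 0x5e2, nat_lit 0x1bc, nat_lit 0x1d4, nat_lit 0x4e0, nat_lit 0x5a4, nat_lit 0x47c, nat_lit 0x4d8, nat_lit 0x5f0, nat_lit 0x2cc, nat_lit 0x510]]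

/-- The set with given coordinates. -/
noncomputable def D (a : Nat) : Finset GolayPt := S (comb B a)

noncomputable def q (y a : Nat) : Nat := comb (wordAt AT y) a

abbrev O : Set (Finset GolayPt) := orbit Spor.M23 (D 1)

def P (a : Nat) : Prop := a < 2048 ∧ D a ∈ O

theorem act {y : Nat} (hy : y < 8) (a : Nat) : (letter g y)⁻¹ • D a = D (q y a) := by
  have h : ∀ y < 8, (wordAt AT y).length = B.length ∧ ∀ k < B.length,
    eqN 24 (pullW lP (substW U23 [y]) (nth B k)) (comb B (nth (wordAt AT y) k)) = true := by decide +kernel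
  refine act_comb (h y hy).1 (fun k hk => ?_) a
  have := I.smul_msk RP0 ((h y hy).2 k hk)
  rw [wprod_substW, wprod_cons, wprod_nil, mul_one] at this
  exact inv_smul_eq_iff.2 this.symm

theorem O_smul {σ : Equiv.Perm GolayPt} (h : σ ∈ Spor.M23) {d : Finset GolayPt} (hd : d ∈ O) : σ • d ∈ O :=
  mapsTo_smul_orbit (⟨σ, h⟩ : Spor.M23) _ hd

theorem T : Tab g 4 O D q P where
  mem _ h := h.2
  cl y hy a h := ⟨comb_lt (n := 11) ((by decide +kernel : ∀ y < 8,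
      lall (fun a => Nat.blt a (sing 11)) (wordAt AT y) = true) y hy) a,
    act hy a ▸ O_smul (inv_mem (letter_mem (gmem _))) h.2⟩
  act _ hy a _ := act hy a

def bf0 : List Nat := [nat_lit 0xe, nat_lit 0x2c28, nat_lit 0x2c2a, nat_lit 0x2c2c, nat_lit 0x2c29, nat_lit 0x2c2b, nat_lit 0x3ee8, nat_lit 0x3eea, nat_lit 0x3eec, nat_lit 0x3eee, nat_lit 0x3eeb, nat_lit 0x6d8, nat_lit 0x6da, nat_lit 0x6dc, nat_lit 0x6de, nat_lit 0x6d9, nat_lit 0x2b28, nat_lit 0x2b2a, nat_lit 0x2b29, nat_lit 0x2b2b, nat_lit 0x280a, nat_lit 0x2809, nat_lit 0x280b, nat_lit 0x1718, nat_lit 0x171c, nat_lit 0x171e, nat_lit 0x1719, nat_lit 0x171b, nat_lit 0x6e8, nat_lit 0x6ea, nat_lit 0x6ec, nat_lit 0x6ee, nat_lit 0x2e0a, nat_lit 0x2e0c, nat_lit 0x2e09, nat_lit 0xa78, nat_lit 0xa7a, nat_lit 0xa7e, nat_lit 0xa7b, nat_lit 0x1c28, nat_lit 0x1c2a, nat_lit 0x1c2c, nat_lit 0x1c29, nat_lit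 0x1c2b, nat_lit 0x176c, nat_lit 0x176e, nat_lit 0x1769, nat_lit 0x176b, nat_lit 0x1ea, nat_lit 0x1ec, nat_lit 0x1ee, nat_lit 0x1eb, nat_lit 0xc98, nat_lit 0xc9c, nat_lit 0xc99, nat_lit 0x1088, nat_lit 0x108a, nat_lit 0x108e, nat_lit 0x1089, nat_lit 0x108b, nat_lit 0x2fb8, nat_lit 0x2fba, nat_lit 0x2fbc, nat_lit 0x2fb9, nat_lit 0x2fbb, nat_lit 0x247a, nat_lit 0x247c, nat_lit 0x247b, nat_lit 0x2d78, nat_lit 0x2d7a, nat_lit 0x2d7c, nat_lit 0x2d7b, nat_lit 0x8ea, nat_lit 0x8ec, nat_lit 0x8ee, nat_lit 0x8e9, nat_lit 0x103a, nat_lit 0x103e, nat_lit 0x1039, nat_lit 0x103b, nat_lit 0x1208, nat_lit 0x120e, nat_lit 0x1209, nat_lit 0x120b, nat_lit 0x11c8, nat_lit 0x11ca, nat_lit 0x11cc, nat_lit 0x11ce, nat_lit 0x1ca, nat_lit 0x1ce, nat_lit 0x1c9, nat_lit 0x1b88, nat_lit 0x1b8c, nat_lit 0x1b8b, nat_lit 0x178, nat_lit 0x17c, nat_lit 0x17e, nat_lit 0x17b, nat_lit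 0xf00, nat_lit 0xf02]
def bf1 : List Nat := [nat_lit 0xf06, nat_lit 0xf01, nat_lit 0xf03, nat_lit 0x3d58, nat_lit 0x3d5a, nat_lit 0x3d5c, nat_lit 0x3d59, nat_lit 0x3d5b, nat_lit 0x259c, nat_lit 0x2599, nat_lit 0x259b, nat_lit 0x428, nat_lit 0x42c, nat_lit 0x42e, nat_lit 0x429, nat_lit 0x258, nat_lit 0x25a, nat_lit 0x25c, nat_lit 0x25e, nat_lit 0xf8a, nat_lit 0xf8c, nat_lit 0xf8e, nat_lit 0xf89, nat_lit 0x19f0, nat_lit 0x19f2, nat_lit 0x19f6, nat_lit 0x19f1, nat_lit 0x19f3, nat_lit 0xd48, nat_lit 0xd4a, nat_lit 0xd4c, nat_lit 0xd49, nat_lit 0xd4b, nat_lit 0xcf8, nat_lit 0xcfc, nat_lit 0xcfe, nat_lit 0xcf9, nat_lit 0x3858, nat_lit 0x385a, nat_lit 0x385e, nat_lit 0x3859, nat_lit 0x385b, nat_lit 0x221a, nat_lit 0x221e, nat_lit 0x221b, nat_lit 0x22a8, nat_lit 0x22ac, nat_lit 0x22ae, nat_lit 0x22ab, nat_lit 0xba8, nat_lit 0xbaa, nat_lit 0xba9, nat_lit 0xc1c,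 nat_lit 0xc19, nat_lit 0xc1b, nat_lit 0x2348, nat_lit 0x234c, nat_lit 0x234e, nat_lit 0x2158, nat_lit 0x215a, nat_lit 0x215e, nat_lit 0x215b, nat_lit 0x2558, nat_lit 0x255a, nat_lit 0x255c, nat_lit 0x2559, nat_lit 0x28ba, nat_lit 0x28be, nat_lit 0x28b9, nat_lit 0x28bb, nat_lit 0x240a, nat_lit 0x2409, nat_lit 0x240b, nat_lit 0xe38, nat_lit 0xe3c, nat_lit 0x872, nat_lit 0x876, nat_lit 0x871, nat_lit 0x873, nat_lit 0x110c, nat_lit 0x296e, nat_lit 0x2969, nat_lit 0x296b, nat_lit 0x4b8, nat_lit 0x4bc, nat_lit 0x4be, nat_lit 0x4b9, nat_lit 0x1bc, nat_lit 0x1be, nat_lit 0x1ef0, nat_lit 0x1ef2, nat_lit 0x1ef6, nat_lit 0x1ef1, nat_lit 0x1ef3, nat_lit 0x2548, nat_lit 0x254c, nat_lit 0x2549, nat_lit 0x254b, nat_lit 0x208e, nat_lit 0x20fe]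
def bf2 : List Nat := [nat_lit 0x2710, nat_lit 0x2712, nat_lit 0x2711, nat_lit 0x2713, nat_lit 0x32fe, nat_lit 0x218, nat_lit 0x21c, nat_lit 0x21e, nat_lit 0x21b, nat_lit 0x2268, nat_lit 0x226c, nat_lit 0x2269, nat_lit 0x1d48, nat_lit 0x1d4a, nat_lit 0x1d4c, nat_lit 0x1d49, nat_lit 0x1d4b, nat_lit 0xc6e, nat_lit 0xc69, nat_lit 0xc6b, nat_lit 0x158, nat_lit 0x15c, nat_lit 0x15b, nat_lit 0x1688, nat_lit 0x168a, nat_lit 0x168e, nat_lit 0x168b, nat_lit 0xec8, nat_lit 0xeca, nat_lit 0xecc, nat_lit 0xece, nat_lit 0xec9, nat_lit 0x1b28, nat_lit 0x1b2a, nat_lit 0x1b2e, nat_lit 0x1b29, nat_lit 0x1b2b, nat_lit 0x3c0a, nat_lit 0x3c0c, nat_lit 0x3c09, nat_lit 0x3c0b, nat_lit 0x3f08, nat_lit 0x3f0c, nat_lit 0x3f0e, nat_lit 0x3f09, nat_lit 0x3f0b, nat_lit 0x75a, nat_lit 0x75c, nat_lit 0x6ba, nat_lit 0x6be, nat_lit 0x1dac, nat_lit 0x1dae, nat_lit 0x1dab, nat_lit 0x618,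 nat_lit 0x61a, nat_lit 0x61c, nat_lit 0x165e, nat_lit 0x1f0, nat_lit 0x1f6, nat_lit 0x160c, nat_lit 0x160e, nat_lit 0x10b8, nat_lit 0x10be, nat_lit 0x19b8, nat_lit 0x19ba, nat_lit 0x19be, nat_lit 0x19b9, nat_lit 0x27ea, nat_lit 0x27ec, nat_lit 0x27e9, nat_lit 0x27eb, nat_lit 0x3fa, nat_lit 0x3fe, nat_lit 0x3fb, nat_lit 0x3358, nat_lit 0x335a, nat_lit 0x18b8, nat_lit 0x18bc, nat_lit 0x18bb, nat_lit 0x99a, nat_lit 0x99e, nat_lit 0x999, nat_lit 0x20c8, nat_lit 0x20cc, nat_lit 0x20ce, nat_lit 0x20cb, nat_lit 0xbcc, nat_lit 0xbce, nat_lit 0x19a8, nat_lit 0x19aa, nat_lit 0x19ac, nat_lit 0x19a9, nat_lit 0x19ab, nat_lit 0xd2c, nat_lit 0xd2e, nat_lit 0xd29, nat_lit 0x2178, nat_lit 0x217c, nat_lit 0x217e, nat_lit 0x2179]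
def bf3 : List Nat := [nat_lit 0x9c, nat_lit 0x1f80, nat_lit 0x1f82, nat_lit 0x1f86, nat_lit 0x1f81, nat_lit 0x3ec8, nat_lit 0x3eca, nat_lit 0x3ecc, nat_lit 0x3ec9, nat_lit 0x3ecb, nat_lit 0x10fe, nat_lit 0x28aa, nat_lit 0x28ac, nat_lit 0x28a9, nat_lit 0x28ab, nat_lit 0x12ec, nat_lit 0x12ee, nat_lit 0x218c, nat_lit 0x218e, nat_lit 0x281a, nat_lit 0x281b, nat_lit 0x2fc, nat_lit 0x2fe, nat_lit 0x13c, nat_lit 0x13e, nat_lit 0x102a, nat_lit 0x102e, nat_lit 0x2d58, nat_lit 0x2d5a, nat_lit 0x2d5c, nat_lit 0x2d59, nat_lit 0x2d5b, nat_lit 0x20ec, nat_lit 0x890, nat_lit 0x892, nat_lit 0x896, nat_lit 0xc30, nat_lit 0xc32, nat_lit 0xc31, nat_lit 0x780, nat_lit 0x782, nat_lit 0x784, nat_lit 0x781, nat_lit 0x783, nat_lit 0x26f2, nat_lit 0x26f4, nat_lit 0x26f1, nat_lit 0x2ec0, nat_lit 0x2ec4, nat_lit 0x2ec6, nat_lit 0x2ec3, nat_lit 0x1748, nat_lit 0x174e, nat_lit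 0x3758, nat_lit 0x375e, nat_lit 0x80, nat_lit 0x82, nat_lit 0x86, nat_lit 0x81, nat_lit 0x83, nat_lit 0x2c1a, nat_lit 0x2c1c, nat_lit 0x2c19, nat_lit 0x1e88, nat_lit 0x1e8c, nat_lit 0x1e89, nat_lit 0x1e8b, nat_lit 0x1842, nat_lit 0x1846, nat_lit 0x1843, nat_lit 0x3d2c, nat_lit 0x3d2e, nat_lit 0x12ce, nat_lit 0x32e, nat_lit 0x329, nat_lit 0x32b, nat_lit 0x709, nat_lit 0x6e, nat_lit 0x18ec, nat_lit 0x140e, nat_lit 0x2e78, nat_lit 0x2e7a, nat_lit 0x2e79, nat_lit 0x2e7b, nat_lit 0x1e1c, nat_lit 0x1e1e, nat_lit 0x1820, nat_lit 0x1822, nat_lit 0x1824, nat_lit 0x1826, nat_lit 0x1823, nat_lit 0x21a0, nat_lit 0x21a2, nat_lit 0x21a4, nat_lit 0x21a1, nat_lit 0x1f90, nat_lit 0x1f92, nat_lit 0x1f91, nat_lit 0x1f93, nat_lit 0x5b1]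
def bf4 : List Nat := [nat_lit 0x5b3, nat_lit 0xa60, nat_lit 0xa64, nat_lit 0xa66, nat_lit 0x3288, nat_lit 0x328a, nat_lit 0x328e, nat_lit 0x328b, nat_lit 0x688, nat_lit 0x68c, nat_lit 0x68e, nat_lit 0x689, nat_lit 0x3090, nat_lit 0x3092, nat_lit 0x3096, nat_lit 0x3091, nat_lit 0x3093, nat_lit 0x2eba, nat_lit 0x2ebc, nat_lit 0x2ebe, nat_lit 0x2ebb, nat_lit 0x2fec, nat_lit 0x2fee, nat_lit 0x2feb, nat_lit 0x7c, nat_lit 0x13e6, nat_lit 0x2e38, nat_lit 0x2e3c, nat_lit 0x2e39, nat_lit 0x30ae, nat_lit 0x278c, nat_lit 0x278b, nat_lit 0x2208, nat_lit 0x220a, nat_lit 0x220c, nat_lit 0x220e, nat_lit 0x2209, nat_lit 0xa0a, nat_lit 0xa09, nat_lit 0x139e, nat_lit 0x1afe, nat_lit 0x85a, nat_lit 0x859, nat_lit 0x85b, nat_lit 0x101c, nat_lit 0x101e, nat_lit 0x73c, nat_lit 0x73e, nat_lit 0xdaa, nat_lit 0xdac, nat_lit 0xda9, nat_lit 0x30db, nat_lit 0x90e, nat_lit 0x909,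 nat_lit 0x105e, nat_lit 0x1a49, nat_lit 0x1a4b, nat_lit 0x16fe, nat_lit 0x16fb, nat_lit 0x8c0, nat_lit 0x8c6, nat_lit 0x8c1, nat_lit 0x8c3, nat_lit 0x4c8, nat_lit 0xfde, nat_lit 0x34e, nat_lit 0x839, nat_lit 0x314c, nat_lit 0x51e, nat_lit 0x2b16, nat_lit 0x2b11, nat_lit 0x2b13, nat_lit 0xfc, nat_lit 0xfe, nat_lit 0x2ed8, nat_lit 0x2eda, nat_lit 0x2ed9, nat_lit 0x3a1b, nat_lit 0x159c, nat_lit 0x159e, nat_lit 0x1d3e, nat_lit 0x10e8, nat_lit 0x10ee, nat_lit 0x10eb, nat_lit 0x10c0, nat_lit 0x10c6, nat_lit 0x3d2, nat_lit 0x3d4, nat_lit 0x3d1, nat_lit 0x3d3, nat_lit 0x1236, nat_lit 0x2b46, nat_lit 0x2b43, nat_lit 0x2cd0, nat_lit 0x2cd2, nat_lit 0x2cd6, nat_lit 0x2cd1, nat_lit 0x54a, nat_lit 0x132e, nat_lit 0x23e]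
def bf5 : List Nat := [nat_lit 0xdf6, nat_lit 0xf18, nat_lit 0xf1c, nat_lit 0xf19, nat_lit 0x380c, nat_lit 0x380e, nat_lit 0x237a, nat_lit 0x237e, nat_lit 0xbb4, nat_lit 0xbb6, nat_lit 0x3790, nat_lit 0x3792, nat_lit 0x3791, nat_lit 0x3793, nat_lit 0x3d84, nat_lit 0xf71, nat_lit 0x1ea8, nat_lit 0x1eac, nat_lit 0x1eab, nat_lit 0x1890, nat_lit 0x1892, nat_lit 0x1896, nat_lit 0x1891, nat_lit 0x1893, nat_lit 0x2f7a, nat_lit 0x2f7c, nat_lit 0x2f79, nat_lit 0x346c, nat_lit 0x346e, nat_lit 0x3469, nat_lit 0x346b, nat_lit 0xff8, nat_lit 0xffa, nat_lit 0xff9, nat_lit 0xffb, nat_lit 0x1ec6, nat_lit 0x1ec3, nat_lit 0xfa2, nat_lit 0xfa6, nat_lit 0xfa1, nat_lit 0x2991, nat_lit 0x1d00, nat_lit 0x1d06, nat_lit 0x3a7a, nat_lit 0x3a79, nat_lit 0x3a7b, nat_lit 0x1a02, nat_lit 0x20d8, nat_lit 0x20da, nat_lit 0x20dc, nat_lit 0x20d9, nat_lit 0x20db, nat_lit 0x204b, nat_lit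 0x34fa, nat_lit 0x37e, nat_lit 0x1a18, nat_lit 0x1a1a, nat_lit 0x1a1c, nat_lit 0x1a1e, nat_lit 0x1a1b, nat_lit 0x36c8, nat_lit 0x36ce, nat_lit 0xb18, nat_lit 0xb1a, nat_lit 0xb1e, nat_lit 0xb19, nat_lit 0xb1b, nat_lit 0x3dba, nat_lit 0x3dbc, nat_lit 0x3db9, nat_lit 0x3dbb, nat_lit 0x69c, nat_lit 0x69e, nat_lit 0x699, nat_lit 0x69b, nat_lit 0x2e6e, nat_lit 0x38fc, nat_lit 0x2ad2, nat_lit 0x118, nat_lit 0xa4a, nat_lit 0x3f5a, nat_lit 0x3f5c, nat_lit 0x3f59, nat_lit 0x1868, nat_lit 0x186a, nat_lit 0x186c, nat_lit 0x1869, nat_lit 0x186b, nat_lit 0x243c, nat_lit 0x2439, nat_lit 0x243b, nat_lit 0x209a, nat_lit 0x209e, nat_lit 0x209b, nat_lit 0x1cc8, nat_lit 0x1ccc, nat_lit 0x3310, nat_lit 0x3312, nat_lit 0x3316, nat_lit 0x3313]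
def bf6 : List Nat := [nat_lit 0x2f2c, nat_lit 0x341a, nat_lit 0x341c, nat_lit 0x341e, nat_lit 0x341b, nat_lit 0x32c8, nat_lit 0x32ce, nat_lit 0x32cb, nat_lit 0x2b6c, nat_lit 0x2b6e, nat_lit 0x2b69, nat_lit 0x16ea, nat_lit 0x16e9, nat_lit 0x16eb, nat_lit 0x1c3a, nat_lit 0x1c3c, nat_lit 0x1c39, nat_lit 0x1c3b, nat_lit 0xb28, nat_lit 0xb2c, nat_lit 0xb2e, nat_lit 0xb29, nat_lit 0xb2b, nat_lit 0x27da, nat_lit 0x27de, nat_lit 0x2a5e, nat_lit 0x2a59, nat_lit 0x2f39, nat_lit 0x1f98, nat_lit 0x1f9c, nat_lit 0x1f9e, nat_lit 0x1f9b, nat_lit 0x1728, nat_lit 0x172e, nat_lit 0x172b, nat_lit 0x1480, nat_lit 0x1486, nat_lit 0x1483, nat_lit 0x2afc, nat_lit 0x2afb, nat_lit 0x37e8, nat_lit 0x37ec, nat_lit 0x3a86, nat_lit 0x3a83, nat_lit 0x2cfa, nat_lit 0x2cfb, nat_lit 0x2b6, nat_lit 0x34cc, nat_lit 0x322e, nat_lit 0x1ed8, nat_lit 0x1eda, nat_lit 0x2670, nat_lit 0x2672,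 nat_lit 0x2671, nat_lit 0x2673, nat_lit 0x2bd3, nat_lit 0x3f6c, nat_lit 0x3f6b, nat_lit 0x3fb8, nat_lit 0x3fbc, nat_lit 0x3fbb, nat_lit 0x3d1a, nat_lit 0x3d1b, nat_lit 0xf48, nat_lit 0xf4a, nat_lit 0xf4c, nat_lit 0xf49, nat_lit 0x36ba, nat_lit 0x36b9, nat_lit 0x36bb, nat_lit 0x3a0a, nat_lit 0x3a0b, nat_lit 0x35b8, nat_lit 0x35bc, nat_lit 0x35be, nat_lit 0x35bb, nat_lit 0x29ba, nat_lit 0x29bc, nat_lit 0x29b9, nat_lit 0x29bb, nat_lit 0x41e, nat_lit 0x233e, nat_lit 0x117c, nat_lit 0x14ee, nat_lit 0x4ee, nat_lit 0xb46, nat_lit 0x2d0c, nat_lit 0x2d0b, nat_lit 0x115e, nat_lit 0x24cb, nat_lit 0x3b1a, nat_lit 0x2228, nat_lit 0x222c, nat_lit 0x2229, nat_lit 0x3b68, nat_lit 0x3b6e, nat_lit 0x3b6b, nat_lit 0x1d79, nat_lit 0x2b08, nat_lit 0x2b0c]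
def bf7 : List Nat := [nat_lit 0x2b09, nat_lit 0x2b0b, nat_lit 0x5a8, nat_lit 0x81e, nat_lit 0xed6, nat_lit 0x36e0, nat_lit 0x36e2, nat_lit 0x36e1, nat_lit 0x36e3, nat_lit 0x2a96, nat_lit 0x2a91, nat_lit 0x3f2a, nat_lit 0x3f2b, nat_lit 0x3f48, nat_lit 0x3f4a, nat_lit 0x3f4c, nat_lit 0x3f4e, nat_lit 0x3080, nat_lit 0x3082, nat_lit 0x3086, nat_lit 0x3081, nat_lit 0x3083, nat_lit 0x381a, nat_lit 0x381c, nat_lit 0x3819, nat_lit 0x381b, nat_lit 0x369c, nat_lit 0x369e, nat_lit 0x369b, nat_lit 0x3119, nat_lit 0x311b, nat_lit 0x12aa, nat_lit 0x12ae, nat_lit 0x2fa9, nat_lit 0xa99, nat_lit 0xa9b, nat_lit 0x1258, nat_lit 0x125c, nat_lit 0x1259, nat_lit 0x1ba2, nat_lit 0x3dea, nat_lit 0x3dec, nat_lit 0x3de9, nat_lit 0xe88, nat_lit 0xe8a, nat_lit 0x498, nat_lit 0x1e20, nat_lit 0x1e22, nat_lit 0x23fa, nat_lit 0x23f9, nat_lit 0x37ac, nat_lit 0x3fd8, nat_lit 0x3fdc,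 nat_lit 0x3fdb, nat_lit 0x71c, nat_lit 0x71e, nat_lit 0x3b09, nat_lit 0x3f19, nat_lit 0x37f8, nat_lit 0x37fc, nat_lit 0x37fe, nat_lit 0x37f9, nat_lit 0xbf6, nat_lit 0x272, nat_lit 0x2790, nat_lit 0x2792, nat_lit 0x2794, nat_lit 0x2793, nat_lit 0x33b6, nat_lit 0x39a2, nat_lit 0x39a6, nat_lit 0x3910, nat_lit 0x3912, nat_lit 0x3916, nat_lit 0x3913, nat_lit 0x1c10, nat_lit 0x1c12, nat_lit 0x1c14, nat_lit 0x1c16, nat_lit 0x1c11, nat_lit 0x3a58, nat_lit 0x3a59, nat_lit 0x3a5b, nat_lit 0x2752, nat_lit 0x2754, nat_lit 0x2751, nat_lit 0x2753, nat_lit 0x2d30, nat_lit 0x2d34, nat_lit 0x2d36, nat_lit 0x2d31, nat_lit 0x2d33, nat_lit 0x1266, nat_lit 0xb06, nat_lit 0x2b81, nat_lit 0x1fe6, nat_lit 0x224a, nat_lit 0x1ce8, nat_lit 0x2a82, nat_lit 0x2a84]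
def bf8 : List Nat := [nat_lit 0x2a86, nat_lit 0x2a83, nat_lit 0x1222, nat_lit 0x1226, nat_lit 0x2702, nat_lit 0x2701, nat_lit 0x2703, nat_lit 0x1f64, nat_lit 0x1f66, nat_lit 0x1f61, nat_lit 0x1f63, nat_lit 0x2820, nat_lit 0x2824, nat_lit 0x2826, nat_lit 0x2823, nat_lit 0x5c8, nat_lit 0x5ca, nat_lit 0x5cc, nat_lit 0x2252, nat_lit 0x329a, nat_lit 0x3299, nat_lit 0x114e, nat_lit 0x114b, nat_lit 0x690, nat_lit 0x692, nat_lit 0x691, nat_lit 0x317b, nat_lit 0xfe8, nat_lit 0xfec, nat_lit 0xfe9, nat_lit 0x2390, nat_lit 0x3742, nat_lit 0x3743, nat_lit 0xb86, nat_lit 0x2f09, nat_lit 0x2f6b, nat_lit 0x1c89, nat_lit 0x1c8b, nat_lit 0x3e8a, nat_lit 0x1e38, nat_lit 0x1e3a, nat_lit 0x1e3c, nat_lit 0x2eea, nat_lit 0x3e7c, nat_lit 0x84e, nat_lit 0x3ff8, nat_lit 0x3ffb, nat_lit 0xa56, nat_lit 0x3400, nat_lit 0x3402, nat_lit 0x3404, nat_lit 0x3a6, nat_lit 0x30f0, nat_lit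 0x30f6, nat_lit 0x3c00, nat_lit 0x3c02, nat_lit 0x3c04, nat_lit 0x2432, nat_lit 0x2436, nat_lit 0x7d0, nat_lit 0x7d6, nat_lit 0x7d1, nat_lit 0x7d3, nat_lit 0x18d6, nat_lit 0xd66, nat_lit 0xf20, nat_lit 0xf22, nat_lit 0xf24, nat_lit 0xf21, nat_lit 0xf23, nat_lit 0x1668, nat_lit 0x2acc, nat_lit 0x1628, nat_lit 0x1629, nat_lit 0x390c, nat_lit 0x390b, nat_lit 0x22de, nat_lit 0x2d00, nat_lit 0x2d02, nat_lit 0x2d06, nat_lit 0x2d03, nat_lit 0xe08, nat_lit 0xe0c, nat_lit 0x3cba, nat_lit 0xf40, nat_lit 0xf46, nat_lit 0xf43, nat_lit 0x23f2, nat_lit 0x23f4, nat_lit 0x23f6, nat_lit 0x23f1, nat_lit 0x36f2, nat_lit 0x36f1, nat_lit 0x36f3, nat_lit 0x1dc2, nat_lit 0x1dc1, nat_lit 0x1940, nat_lit 0x1946, nat_lit 0x1943, nat_lit 0x1dcc]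
def bf9 : List Nat := [nat_lit 0xc79, nat_lit 0x2bf9, nat_lit 0x26a2, nat_lit 0x26a1, nat_lit 0x3ce0, nat_lit 0x3ce2, nat_lit 0x27cc, nat_lit 0x27ce, nat_lit 0x27cb, nat_lit 0x3120, nat_lit 0x3122, nat_lit 0x388b, nat_lit 0x3829, nat_lit 0x382b, nat_lit 0x8ae, nat_lit 0x2748, nat_lit 0x274a, nat_lit 0x2749, nat_lit 0xee, nat_lit 0x3c9c, nat_lit 0x3d7a, nat_lit 0x3d7b, nat_lit 0x18e, nat_lit 0x155c, nat_lit 0x1559, nat_lit 0xe76, nat_lit 0x26dc, nat_lit 0x26db, nat_lit 0x2e88, nat_lit 0x2e8c, nat_lit 0x2e8b, nat_lit 0x1bfa, nat_lit 0x38e, nat_lit 0x343a, nat_lit 0x343c, nat_lit 0x28c6, nat_lit 0x622, nat_lit 0x621, nat_lit 0x2d1c, nat_lit 0x1ac6, nat_lit 0x26d1, nat_lit 0x26d3, nat_lit 0xaa6, nat_lit 0x3a26, nat_lit 0x2779, nat_lit 0x2dca, nat_lit 0x2dcb, nat_lit 0x1d58, nat_lit 0x1d5a, nat_lit 0x1d5e, nat_lit 0x1d59, nat_lit 0x25bc, nat_lit 0x12be,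 nat_lit 0x3cda, nat_lit 0x3cdc, nat_lit 0x3cdb, nat_lit 0x3fc2, nat_lit 0x3fc3, nat_lit 0x19c0, nat_lit 0x19c2, nat_lit 0x19c4, nat_lit 0x19c6, nat_lit 0x262, nat_lit 0x2130, nat_lit 0x2134, nat_lit 0x2133, nat_lit 0x1770, nat_lit 0x1771, nat_lit 0x762, nat_lit 0x764, nat_lit 0x3ad6, nat_lit 0x2770, nat_lit 0x2771, nat_lit 0x2d3a, nat_lit 0x2d3b, nat_lit 0x2f33, nat_lit 0x32ee, nat_lit 0x2490, nat_lit 0x2496, nat_lit 0x2491, nat_lit 0x285a, nat_lit 0x3d4c, nat_lit 0x263a, nat_lit 0x263c, nat_lit 0x2639, nat_lit 0x24b0, nat_lit 0x24b4, nat_lit 0x24b3, nat_lit 0x1cd0, nat_lit 0x2dc0, nat_lit 0x2dc6, nat_lit 0x2dc1, nat_lit 0x25f2, nat_lit 0x1c51, nat_lit 0x2888, nat_lit 0x288c, nat_lit 0x3c69, nat_lit 0x2e1c, nat_lit 0x2362, nat_lit 0x3232]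
def bf10 : List Nat := [nat_lit 0x31f2, nat_lit 0x31f1, nat_lit 0x31f3, nat_lit 0x1c02, nat_lit 0x2c0, nat_lit 0x2c6, nat_lit 0x2c3, nat_lit 0xeb2, nat_lit 0xeb1, nat_lit 0x374c, nat_lit 0x33ac, nat_lit 0x38ec, nat_lit 0x38eb, nat_lit 0xcda, nat_lit 0xcdc, nat_lit 0x67e, nat_lit 0x1560, nat_lit 0x1563, nat_lit 0x2d62, nat_lit 0x2da6, nat_lit 0x356, nat_lit 0x282c, nat_lit 0x19, nat_lit 0x3a6b, nat_lit 0x3e98, nat_lit 0x3e9b, nat_lit 0x268, nat_lit 0x26e, nat_lit 0x38c0, nat_lit 0x38c2, nat_lit 0x38c1, nat_lit 0x38c3, nat_lit 0x391c, nat_lit 0xebc, nat_lit 0x3b7a, nat_lit 0x3193, nat_lit 0x22ec, nat_lit 0x22eb, nat_lit 0x242c, nat_lit 0x3e4c, nat_lit 0x183e, nat_lit 0x1839, nat_lit 0x2beb, nat_lit 0x312c, nat_lit 0x1e80, nat_lit 0x1e82, nat_lit 0x1e81, nat_lit 0x1e83, nat_lit 0x211c, nat_lit 0x1b06, nat_lit 0x21be, nat_lit 0x8ba, nat_lit 0x323b, nat_lit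 0x32d8, nat_lit 0x32dc, nat_lit 0x32d9, nat_lit 0xf9a, nat_lit 0x8b2, nat_lit 0x8b6, nat_lit 0x3869, nat_lit 0x148c, nat_lit 0x148e, nat_lit 0x2112, nat_lit 0x2116, nat_lit 0x1d50, nat_lit 0x1d54, nat_lit 0x1d56, nat_lit 0x39b2, nat_lit 0x1916, nat_lit 0x378c, nat_lit 0x9c6, nat_lit 0x9c1, nat_lit 0x9c3, nat_lit 0x1b1c, nat_lit 0x1c0c, nat_lit 0x188c, nat_lit 0x302c, nat_lit 0x302b, nat_lit 0x2220, nat_lit 0x2223, nat_lit 0x2aaa, nat_lit 0x2678, nat_lit 0x1430, nat_lit 0x1436, nat_lit 0x1433, nat_lit 0xc5c, nat_lit 0x2a1a, nat_lit 0x297a, nat_lit 0x72c, nat_lit 0x729, nat_lit 0x30fe, nat_lit 0x2242, nat_lit 0x2246, nat_lit 0x2241, nat_lit 0x2cc, nat_lit 0xd9c, nat_lit 0x2916, nat_lit 0x17a0, nat_lit 0x17a2, nat_lit 0x2c36]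
def bf11 : List Nat := [nat_lit 0xd30, nat_lit 0x1582, nat_lit 0x2612, nat_lit 0x2614, nat_lit 0x2611, nat_lit 0x2613, nat_lit 0x327b, nat_lit 0x3edc, nat_lit 0x2582, nat_lit 0x1c30, nat_lit 0x1c32, nat_lit 0x1c36, nat_lit 0x15a0, nat_lit 0x15a6, nat_lit 0x2072, nat_lit 0x2073, nat_lit 0x1f3c, nat_lit 0x3e1c, nat_lit 0x20a0, nat_lit 0x20a2, nat_lit 0x20a3, nat_lit 0x1678, nat_lit 0x167c, nat_lit 0x17ac, nat_lit 0x309c, nat_lit 0x2f88, nat_lit 0x1dd8, nat_lit 0x64c, nat_lit 0x1930, nat_lit 0x1936, nat_lit 0x35a9, nat_lit 0x13f8, nat_lit 0x13fc, nat_lit 0x1a68, nat_lit 0x2ba6, nat_lit 0x38c8, nat_lit 0x2fe1, nat_lit 0x2fe3, nat_lit 0x682, nat_lit 0x2dbc, nat_lit 0x16d0, nat_lit 0x16d3, nat_lit 0x40c, nat_lit 0x2c11, nat_lit 0x2c13, nat_lit 0x1de6, nat_lit 0x2c00, nat_lit 0x2c02, nat_lit 0x2c01, nat_lit 0x3cb6, nat_lit 0x3cb3, nat_lit 0x2cf1, nat_lit 0xe26,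 nat_lit 0x3ef9, nat_lit 0x161c, nat_lit 0x161e, nat_lit 0x1be8, nat_lit 0x3530, nat_lit 0x3532, nat_lit 0x3536, nat_lit 0x31a0, nat_lit 0x31a2, nat_lit 0x31a6, nat_lit 0x31a1, nat_lit 0x1362, nat_lit 0x1366, nat_lit 0x1361, nat_lit 0x1363, nat_lit 0x3104, nat_lit 0x3106, nat_lit 0x3101, nat_lit 0x3103, nat_lit 0x33dc, nat_lit 0x2001, nat_lit 0x1c6c, nat_lit 0x1c69, nat_lit 0x1d11, nat_lit 0x1d13, nat_lit 0x1ffc, nat_lit 0x2f80, nat_lit 0x2f82, nat_lit 0x2f81, nat_lit 0x2f83, nat_lit 0x34a1, nat_lit 0x39da, nat_lit 0x1452, nat_lit 0x1456, nat_lit 0x170c, nat_lit 0x3c5c, nat_lit 0x3eb2, nat_lit 0x3eb6, nat_lit 0x3eb1, nat_lit 0x3eb3, nat_lit 0x319c, nat_lit 0x2a12, nat_lit 0x2a13, nat_lit 0x3440, nat_lit 0x1d84, nat_lit 0x1d86, nat_lit 0x31c0]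
def bf12 : List Nat := [nat_lit 0x31c2, nat_lit 0x31c1, nat_lit 0x3521, nat_lit 0x16a0, nat_lit 0x16a1, nat_lit 0x2500, nat_lit 0x3ac1, nat_lit 0x22e3, nat_lit 0x3032, nat_lit 0x3e92, nat_lit 0x3e94, nat_lit 0x4dc, nat_lit 0x292, nat_lit 0x293, nat_lit 0x1420, nat_lit 0x2e10, nat_lit 0x2e14, nat_lit 0x2141, nat_lit 0x2143, nat_lit 0x3cd2, nat_lit 0x3ba4, nat_lit 0x3a64, nat_lit 0x1df0, nat_lit 0x1df4, nat_lit 0x2734, nat_lit 0x2731, nat_lit 0x2733, nat_lit 0x3544, nat_lit 0x3541, nat_lit 0x1860, nat_lit 0x12a3, nat_lit 0x3a76, nat_lit 0x3a71, nat_lit 0x30c, nat_lit 0x16ac, nat_lit 0xb20, nat_lit 0x2c, nat_lit 0x18a6, nat_lit 0x18a3, nat_lit 0x3211, nat_lit 0x1511, nat_lit 0x2e9c, nat_lit 0x2c6c, nat_lit 0x32b0, nat_lit 0x32b3, nat_lit 0x4a1, nat_lit 0x2dd3, nat_lit 0x25d0, nat_lit 0x2fc6, nat_lit 0x2fb2, nat_lit 0x1a23, nat_lit 0x2eb3, nat_lit 0x2de2,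 nat_lit 0x2de3, nat_lit 0x32c2, nat_lit 0x32d0, nat_lit 0x32d2, nat_lit 0x1ce6, nat_lit 0xce0, nat_lit 0x3e50, nat_lit 0x3e56, nat_lit 0x1a62, nat_lit 0x50c, nat_lit 0x21c1, nat_lit 0x2482, nat_lit 0x6f0, nat_lit 0x2891, nat_lit 0x503, nat_lit 0xc76, nat_lit 0x3502, nat_lit 0x33a3, nat_lit 0x3b74, nat_lit 0x3d64, nat_lit 0x21f0, nat_lit 0x33f0, nat_lit 0x3e43, nat_lit 0x3ae2, nat_lit 0x2270, nat_lit 0x3750, nat_lit 0xfe6, nat_lit 0x3723, nat_lit 0x2ac3, nat_lit 0x3762, nat_lit 0x2ca0, nat_lit 0x1e66, nat_lit 0x29d6, nat_lit 0x13c1]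
def bf : List Nat := bf0 ++ bf1 ++ bf2 ++ bf3 ++ bf4 ++ bf5 ++ bf6 ++ bf7 ++ bf8 ++ bf9 ++ bf10 ++ bf11 ++ bf12

def Om : Nat := nat_lit 0xcb9dfe6bae6ea75be5d5df2c7fd979e3c7f7f2fef751fe9b8fd9b5dfbf7fb9bab07fdfd37fd9d3495df43d57925231cdda734adfbf7fecef519ece3dcb6d97f237f7fdfeadfba4ce7fd9badfe5d5e3eff7513da7c7f7ce3d26e6e31fe9bfef7a7f26ef754f7fe3eff4cb6b973b6d98f2d9e6b6b5bceaef7acb92abceae9ef2019dadfdf15dfbfe9b7f29ef85bf7feceff75e97fd9da23e3d73bce3efe6bfb5d0d57cef7abf7fb9baf43b3ecd61c797f2d9e91cefe6bf1f7a9ec8ab3ea19ea8abf85e67fdc7f764977cbc13efbceaef7a5e61c13d349d9702431a2cb629e67a897c43b9bae9bfef7a3b620e6bae9e58abbc1a86e3834c7a8962a2a8aba20bab3e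

theorem Om_P (a : Nat) (h : Om.testBit a = true) : P a := by
  have e : Nat.beq (bfl q bf (sing 1)) Om = true := by decide +kernel
  refine bfl_spec T.cl bf (fun a ha => ?_) a (by rw [Nat.eq_of_beq_eq_true e]; exact h)
  rw [sing_testBit, decide_eq_true_eq] at ha
  exact ha ▸ ⟨by norm_num, mem_orbit_self _⟩

theorem prD (w : GolayPt → ZMod 2) (a : Nat) : pr w (D a) = ∑ k ∈ range 11, bt a k * pr w (D (sing k)) := by
  have e : ∀ k < 11, comb B (sing k) = nth B k := by decide +kernel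
  refine ((ad_pr w).comb B a).trans (sum_congr rfl fun k hk => ?_)
  rw [D, e k (mem_range.1 hk)]; rfl

/-- The word with given values on the basis. -/
noncomputable def vt (t : Nat → ZMod 2) : GolayPt → ZMod 2 := ∑ k ∈ range 11, t k • wd (nth DU k)

theorem pr_vt (t : Nat → ZMod 2) {l : Nat} (hl : l < 11) : pr (vt t) (D (sing l)) = t l := by
  have e : ∀ k < 11, ∀ l < 11, ((cnt 5 24 (Nat.land (comb B (sing l)) (nth DU k)) : Nat) : ZMod 2) =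
    if k = l then 1 else 0 := by decide +kernel
  have : ∀ s : Finset Nat, pr (∑ k ∈ s, t k • wd (nth DU k)) (D (sing l)) =
      ∑ k ∈ s, t k * pr (wd (nth DU k)) (D (sing l)) := fun s => by
    induction s using Finset.induction_on with
    | empty => exact pr_zero _
    | insert a s h ih => rw [sum_insert h, sum_insert h, pr_add, pr_smul, ih]
  rw [vt, this, sum_congr rfl fun k hk => by rw [D, pr_wd, e k (mem_range.1 hk) l hl]]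
  simp [hl]

theorem D_inj {a b : Nat} (ha : a < 2048) (hb : b < 2048) (h : D a = D b) : a = b := by
  have key : ∀ a, ∀ i < 11, pr (vt fun k => if k = i then 1 else 0) (D a) = bt a i := fun a i hi => by
    rw [prD, sum_congr rfl fun k hk => by rw [pr_vt _ (mem_range.1 hk)]]
    simp [hi]
  exact bt_inj (n := 11) ha hb fun i hi => by rw [← key a i hi, h, key b i hi]

/-- The words in the kernel. -/
def Z (w : GolayPt → ZMod 2) : Prop := w ∈ golayCode ∨ w + Pi.single none 1 ∈ golayCode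

theorem Z.add {v w : GolayPt → ZMod 2} (hv : Z v) (hw : Z w) : Z (v + w) := by
  rcases hv with hv | hv <;> rcases hw with hw | hw
  · exact Or.inl (add_mem hv hw)
  · exact Or.inr (by rw [add_assoc]; exact add_mem hv hw)
  · exact Or.inr (by rw [add_right_comm]; exact add_mem hv hw)
  · exact Or.inl (by have := add_mem hv hw; rwa [add_add_add_comm, vv, add_zero] at this)

theorem Z.pr {w : GolayPt → ZMod 2} (h : Z w) (a : Nat) : pr w (D a) = 0 := by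
  have e : ∀ a ∈ BS, ∀ b ∈ B, ((cnt 5 24 (Nat.land b a) : Nat) : ZMod 2) = 0 := by decide +kernel
  rcases h with h | h
  · exact pr_code h e a
  · have h1 := pr_code h e a
    have h2 : Ex.pr (Pi.single none 1) (S (comb B a)) = 0 := by
      rw [← wd_sing]
      exact (ad_pr _).comb0 (fun b hb => (pr_wd _ b).trans ((by decide +kernel :
        ∀ b ∈ B, ((cnt 5 24 (Nat.land b (sing 23)) : Nat) : ZMod 2) = 0) b hb)) a
    rw [pr_add, h2, add_zero] at h1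
    exact h1

theorem Z_vt (w : GolayPt → ZMod 2) : Z (w + vt fun k => pr w (D (sing k))) := by
  induction w using Pi.single_induction with
  | zero => left; simp [vt, pr_zero]
  | add v w h1 h2 =>
    have := h1.add h2
    rw [add_add_add_comm] at this
    simpa only [vt, pr_add, add_smul, sum_add_distrib] using this
  | single p m =>
    by_cases hm : m = 0
    · left; simp [hm, vt, pr_zero]
    · have e : ∀ i < 24, (∀ k < 11, ((cnt 5 24 (Nat.land (comb B (sing k)) (sing i)) : Nat) : ZMod 2) = bt (nth SY i) k) ∧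
        (isCw (sing i ^^^ comb DU (nth SY i)) = true ∨ isCw (sing i ^^^ comb DU (nth SY i) ^^^ sing 23) = true) := by
        decide +kernel
      obtain ⟨e1, e2⟩ := e _ (I.lt p)
      have : (vt fun k => pr (wd (sing (ix p))) (D (sing k))) = wd (comb DU (nth SY (ix p))) := by
        rw [ad_wd.comb]
        exact sum_congr rfl fun k hk => by simp only [D]; rw [pr_wd, e1 k (mem_range.1 hk)]
      rw [(z2 m).1 hm, ← wd_sing, this, ← ad_wd.xor]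
      refine e2.imp (fun h => mem_supports.1 (U_of h)) fun h => ?_
      rw [← wd_sing, ← ad_wd.xor]
      exact mem_supports.1 (U_of h)

theorem Z_of {v w : GolayPt → ZMod 2} (h : ∀ k < 11, pr v (D (sing k)) = pr w (D (sing k))) : Z (v + w) := by
  have := Z_vt (v + w)
  rwa [vt, sum_eq_zero fun k hk => by rw [pr_add, h k (mem_range.1 hk), z22, zero_smul], add_zero] at this

noncomputable def g3 (j : Nat) : Equiv.Perm GolayPt := wprod g (wordAt CfsgH7.M23.S j)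

theorem gen3 : genW g3 (gensW 3) = genW g CfsgH7.M23.S := genW_wordAt g CfsgH7.M23.S

theorem satR : Sat g CfsgH7.M23.R := fun r hr => sub sat r (List.mem_append_left _ hr)

theorem fix3 : ∀ x ∈ genW g CfsgH7.M23.S, x • D 1 = D 1 := by
  refine genW_le (K := stabilizer _ (D 1)).2 fun w hw => ?_
  obtain ⟨y, hy, rfl, e⟩ := (by decide +kernel : ∀ w ∈ CfsgH7.M23.S, ∃ y < 8, w = [y] ∧ q y 1 = 1) w hw
  have := act hy 1
  rw [e, inv_smul_eq_iff] at this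
  rw [wprod_cons, wprod_nil, mul_one]
  exact this.symm

theorem le3 : genW g CfsgH7.M23.S ≤ Spor.M23 := genW_le.2 fun _ _ => wprod_mem fun _ _ => gmem _

theorem stab {x : Equiv.Perm GolayPt} (hx : x ∈ Spor.M23) (h : x • D 1 = D 1) : x ∈ genW g CfsgH7.M23.S := by
  have h1 := CfsgH7.M23.p2 _ g _ satR fun _ hw => mem_genW g hw
  rw [gen] at h1
  let K := stabilizer (Equiv.Perm GolayPt) (D 1)
  have h2 : 1288 ≤ K.relIndex Spor.M23 := by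
    have e : K.subgroupOf Spor.M23 = stabilizer Spor.M23 (D 1) := by ext; rfl
    rw [relIndex, e, index_stabilizer, ← (by decide +kernel : cnt 11 2048 Om = 1288), cnt_eq (by norm_num),
      ← Set.ncard_coe_finset]
    exact Set.ncard_le_ncard_of_injOn D (fun a ha => (Om_P a (mem_bset.1 ha).2).2)
      fun a ha b hb => D_inj (mem_bset.1 ha).1 (mem_bset.1 hb).1
  have h3 := relIndex_mul_relIndex _ (K ⊓ Spor.M23) _ (le_inf fix3 le3) inf_le_right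
  rw [inf_relIndex_right] at h3
  refine relIndex_eq_one.1 (?_ : (genW g CfsgH7.M23.S).relIndex (K ⊓ Spor.M23) = 1) ⟨h, hx⟩
  generalize (genW g CfsgH7.M23.S).relIndex (K ⊓ Spor.M23) = a at h3
  rw [← h3] at h1
  have : a ≠ 0 := fun e => h1.1 (by rw [e, zero_mul])
  nlinarith [Nat.pos_of_ne_zero this, h1.2]

theorem coc {E : Type u} [Group E] [Finite E] {π : E →* Equiv.Perm GolayPt} {τ : (GolayPt → ZMod 2) → E}
    (X : Ext π τ) (hr : π.range = Spor.M23) (hz : ∀ w, τ w = 1 ↔ Z w) : ∃ c, Coc π τ O c := by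
  obtain ⟨B, h1, h2⟩ := X.comp (d0 := D 1) (fun w h => ((hz w).1 h).pr 1) CfsgH7.M11.lv72 (g := g3)
    (Sat.sub fun r hr => sub sat r (List.mem_append_right _ hr))
    (by rw [gen3]; exact CfsgH7.M23.p2.ge satR (by rw [gen, card])) (by rw [gen3, hr]; exact le3)
    (by rw [gen3]; exact wordAt_in fun _ h => mem_genW g h) (by rw [gen3]; exact fix3)
  refine X.coc h2 (fun e => ?_) ?_
  · rw [h1, gen3]
    exact ⟨stab (hr ▸ ⟨e, rfl⟩), fix3 _⟩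
  · rintro _ ⟨σ, rfl⟩
    obtain ⟨e, he⟩ : σ.1 ∈ π.range := by rw [hr]; exact σ.2
    exact ⟨e, by rw [he]; rfl⟩

end CfsgH7.Ex.M23
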