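import Cfsg.Agent.H7.Ex.M23b

/-! A non-split extension of the degree 23 group by the eleven-dimensional quotient module. -/

set_option autoImplicit false
set_option maxRecDepth 100000

namespace CfsgH7.Ex.M23

open Cfsg Subgroup Gol MulAction Finset
open scoped Pointwise

def CM : Nat := nat_lit 0xa100860880221098005000465000160c0714024a1000409024001019d52811000020440200003081004311580001004482040881445200400808a140940078004640408040900402081201001112082130018004700820002400102200106204420080402500148100b0090000908020882000504002400000020800480300101002d9000982a110a0020040065e009004410541480260520002201c02804400500814002402010a400040c41048300c0a10040800d0020088001080000000040082400807020043c00010c0c0083000400c0100005000000000480000010003000091001002242024200000006580008000080000000000000080102000118010d002880080500804081045200000086049280a340840b80c004000a221020000051410450c00045042c02004001448010024a0104e46510004c04c00010c202104506084084000211308401c4000631000c000024c02804428304401046021900810102000301e0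02410709080050810214011802480880800b02048230000100c04110000a0208006100041d8801000c100400200c00101822020208008000444060100f00102412204020c01290004004c4061a022014000210208c8000801004040125201024800002340046704000401430890400021a0c1000a000801c022010c10081100940020002060008100a0000000020010000002820000010488904098008a142c444120441412080075452c4e6002a0906081090aa3991a0100886102549c3094534000612002000883140023811608610800a0000409522123010ba84732400610022142181e20210110c00400246300442230aa110c200020009400122022b94000003084808b018642030388a8070880223480404a2008c8829411040220324098400ad0ec808634a0619080022040014c24084111000400cca200255088060023c4400460060c9e900e4800014680c08022481008000584445c04131201274000144248260000040c1051014050042102484000020017800a0124012c8602960004b840a0000081004a3800020090000a00020082928021054418406220b00c4d6086408512083268290720084938cc98050187f80200002d2c005019040554410078000108008000050200d2043500a48280240973004305096a440200860c0001a2184c186c610340101000e192006e01a2005ca02090028010f6e03884003608429081032d122842484088540028021820480500088a0286011586401050020849078a8004704145485001c04300ca28e62398100004c00022b2c019064282cc0410205005069080580860438888021308018800b100004a4048044053488018f2c00c602000080052084030041100410004048810800901080100022000200020c02188028028463800c12012002000300000b10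

theorem chk5 : nall2 (fun a => Bool.rec true (band (nall (fun y => tb Om (q y a)) 8) (nall (fun r => Nat.beq
    (Nat.land (Nat.xor (wx q (fun j e => Nat.shiftRight CM (2048 * j + e)) (wordAt R r) a)
      (comb ((List.range 11).map fun k => Nat.shiftRight SS (11 * r + k)) a)) 1) 0) 11)) (tb Om a)) 0 32 64 = true := by
  decide +kernel

theorem chk5' {a : Nat} (ha : a < 2048) (h : Om.testBit a = true) : (∀ y < 8, Om.testBit (q y a) = true) ∧
    ∀ r < 11, ws q (fun j e => bt CM (2048 * j + e)) (wordAt R r) a = pr (zs r) (D a) := by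
  have := nall2_spec chk5 a (Nat.zero_le _) ha
  rw [tb_eq, h] at this
  obtain ⟨h1, h2⟩ := band_iff.1 this
  refine ⟨fun y hy => tb_eq _ _ ▸ nall_iff.1 h1 y hy, fun r hr => ?_⟩
  have e := congrArg (fun x => x.testBit 0) (Nat.eq_of_beq_eq_true (nall_iff.1 h2 r hr))
  have s : ∀ a b, bt (Nat.shiftRight a b) 0 = bt a b := fun a b => by
    simp only [bt, Nat.shiftRight_eq, Nat.testBit_shiftRight, add_zero]
  simp only [land_testBit, Nat.testBit_one_zero, Bool.and_true, Nat.zero_testBit] at e
  have e2 : bt (wx q (fun j e => Nat.shiftRight CM (2048 * j + e)) (wordAt R r) a ^^^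
      comb ((List.range 11).map fun k => Nat.shiftRight SS (11 * r + k)) a) 0 = 0 := if_neg (by
    rw [Bool.not_eq_true]; exact e)
  rw [bt_xor, (ad_bt 0).wx, (ad_bt 0).comb] at e2
  simp only [s] at e2
  rw [z23 e2, prD, List.length_map, List.length_range]
  refine sum_congr rfl fun k hk => ?_
  rw [dot_un.nth_map_range' _ (mem_range.1 hk), s, zs, pr_vt _ (mem_range.1 hk), smul_eq_mul]

theorem O_iff {σ : Equiv.Perm GolayPt} (h : σ ∈ Spor.M23) {d : Finset GolayPt} : σ • d ∈ O ↔ d ∈ O :=
  ⟨fun hd => by simpa using O_smul (inv_mem h) hd, O_smul h⟩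

theorem O_surj {d : Finset GolayPt} (hd : d ∈ O) : ∃ a < 2048, Om.testBit a = true ∧ D a = d := by
  obtain ⟨⟨σ, h⟩, rfl⟩ := hd
  show ∃ a < 2048, Om.testBit a = true ∧ D a = σ • D 1
  have key : ∀ y < 8, ∀ a < 2048, Om.testBit a = true →
      ∃ b < 2048, Om.testBit b = true ∧ D b = (letter g y)⁻¹ • D a := fun y hy a ha h =>
    ⟨_, (Om_P _ ((chk5' ha h).1 y hy)).1, (chk5' ha h).1 y hy, (act hy a).symm⟩
  have : ∀ a < 2048, Om.testBit a = true → ∃ b < 2048, Om.testBit b = true ∧ D b = σ • D a := by
    rw [← gen] at h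
    induction h using closure_induction'' with
    | one => exact fun a h1 h2 => ⟨a, h1, h2, (one_smul _ _).symm⟩
    | mem x hx =>
      obtain ⟨w, hw, rfl⟩ := hx
      obtain ⟨j, hj, rfl⟩ := List.mem_map.1 hw
      have := key (2 * j + 1) (by have := List.mem_range.1 hj; omega)
      rwa [letter_odd, inv_inv, ← letter_even g, ← mul_one (letter g _), ← wprod_nil g, ← wprod_cons] at this
    | inv_mem x hx =>
      obtain ⟨w, hw, rfl⟩ := hx
      obtain ⟨j, hj, rfl⟩ := List.mem_map.1 hw
      have := key (2 * j) (by have := List.mem_range.1 hj; omega)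
      rwa [← mul_one (letter g _), ← wprod_nil g, ← wprod_cons] at this
    | mul x y _ _ h1 h2 =>
      intro a ha h
      obtain ⟨b, hb, h3, e⟩ := h2 a ha h
      obtain ⟨c, hc, h4, e'⟩ := h1 b hb h3
      exact ⟨c, hc, h4, by rw [e', e, mul_smul]⟩
  exact this 1 (by norm_num) (by decide +kernel)

abbrev Γ : Type := (Finset GolayPt → Multiplicative (ZMod 2)) ⋊[mulAutArrow] Equiv.Perm GolayPt

open Classical in
noncomputable def ι (w : GolayPt → ZMod 2) : Γ :=
  SemidirectProduct.inl fun d => Multiplicative.ofAdd (if d ∈ O then pr w d else 0)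

open Classical in
noncomputable def y (j : Nat) : Γ :=
  ⟨fun d => Multiplicative.ofAdd (if d ∈ O then bt CM (2048 * j + Function.invFunOn D (Set.Iio 2048) d) else 0), g j⟩

def cΓ (e : Γ) (d : Finset GolayPt) : ZMod 2 := (e.left d).toAdd

theorem cΓ_mul (e f : Γ) (d : Finset GolayPt) : cΓ (e * f) d = cΓ e d + cΓ f (e.right⁻¹ • d) := rfl

theorem CΓ : Coc (SemidirectProduct.rightHom : Γ →* _) ι O cΓ :=
  ⟨fun e f d _ _ _ => cΓ_mul e f d, fun _ _ hd => if_pos hd⟩

theorem ι_add (v w : GolayPt → ZMod 2) : ι (v + w) = ι v * ι w := by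
  rw [ι, ι, ι, ← map_mul]
  congr 1
  funext d
  rw [Pi.mul_apply, ← ofAdd_add, pr_add]
  split_ifs <;> simp

theorem ι_conj {e : Γ} (h : e.right ∈ Spor.M23) (w : GolayPt → ZMod 2) : ι (w ∘ ⇑e.right⁻¹) = e * ι w * e⁻¹ := by
  rw [eq_mul_inv_iff_mul_eq]
  refine SemidirectProduct.ext (funext fun d => Multiplicative.toAdd.injective ?_) (by simp [ι])
  show cΓ (_ * _) d = cΓ (_ * _) d
  rw [cΓ_mul, cΓ_mul, add_comm]
  refine congrArg₂ (· + ·) (by simp only [ι, SemidirectProduct.right_inl, inv_one, one_smul]) ?_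
  simp only [cΓ, ι, SemidirectProduct.left_inl, toAdd_ofAdd, pr_comp']
  by_cases hd : d ∈ O
  · rw [if_pos hd, if_pos ((O_iff (inv_mem h)).2 hd)]
  · rw [if_neg hd, if_neg (mt (O_iff (inv_mem h)).1 hd)]

theorem ι_one (w : GolayPt → ZMod 2) : ι w = 1 ↔ Z w := by
  constructor
  · intro h
    have := Z_of (v := w) (w := 0) fun k hk => by
      rw [pr_zero, ← CΓ.tau _ _ (P_sing hk).2, h]; rfl
    rwa [add_zero] at this
  · intro h
    rw [ι, ← map_one SemidirectProduct.inl]
    congr 1
    funext d
    split_ifs with hd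
    · obtain ⟨a, -, -, rfl⟩ := O_surj hd
      rw [h.pr]; rfl
    · rfl

theorem y_rel {r : Nat} (hr : r < 11) : wprod y (wordAt R r) = ι (zs r) := by
  refine SemidirectProduct.ext (funext fun d => Multiplicative.toAdd.injective ?_) ?_
  · show cΓ _ d = cΓ _ d
    by_cases hd : d ∈ O
    · obtain ⟨a, ha, h, rfl⟩ := O_surj hd
      rw [(CΓ.walk T (x := y) (fun _ => rfl) (Rlt r hr).2 (Om_P a h)).2, CΓ.tau _ _ hd, ← (chk5' ha h).2 r hr]
      refine ws_congr T.cl (fun j _ e he => ?_) (Rlt r hr).2 (Om_P a h)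
      have : Function.invFunOn D (Set.Iio 2048) (D e) = e :=
        Set.InjOn.leftInvOn_invFunOn (fun a ha b hb => D_inj ha hb) he.1
      rw [← this]
      simp only [this]
      exact (if_pos he.2).trans (by rw [this])
    · let F : Subgroup Γ :=
        { carrier := {e | e.right ∈ Spor.M23 ∧ ∀ d ∉ O, cΓ e d = 0}
          one_mem' := ⟨one_mem _, fun _ _ => rfl⟩
          mul_mem' := fun {a b} ha hb => ⟨mul_mem ha.1 hb.1, fun d hd => by
            rw [cΓ_mul, ha.2 d hd, hb.2 _ (by rwa [O_iff (inv_mem ha.1)]), add_zero]⟩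
          inv_mem' := fun {a} ha => ⟨inv_mem ha.1, fun d hd => by
            have := cΓ_mul a⁻¹ a d
            rw [inv_mul_cancel, ha.2 _ (by rwa [SemidirectProduct.inv_right, O_iff (inv_mem (inv_mem ha.1))]), add_zero] at this
            exact this.symm⟩ }
      have : wprod y (wordAt R r) ∈ F := wprod_mem fun _ _ => ⟨gmem _, fun _ hd => if_neg hd⟩
      exact (this.2 d hd).trans (if_neg hd).symm
  · exact (map_wprod SemidirectProduct.rightHom y _).trans (sat _ (Rlt r hr).1)

theorem ι_zero : ι 0 = 1 := (ι_one 0).2 (Or.inl (zero_mem _))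

noncomputable def Δ : Subgroup Γ where
  carrier := Set.range ι
  one_mem' := ⟨0, ι_zero⟩
  mul_mem' := by
    rintro _ _ ⟨v, rfl⟩ ⟨w, rfl⟩
    exact ⟨_, ι_add v w⟩
  inv_mem' := by
    rintro _ ⟨v, rfl⟩
    exact ⟨v, eq_inv_of_mul_eq_one_right (by rw [← ι_add, vv, ι_zero])⟩

noncomputable abbrev EE : Subgroup Γ := Δ ⊔ genW y (gensW 4)

theorem EE_map : EE.map SemidirectProduct.rightHom = Spor.M23 := by
  rw [Subgroup.map_sup, genW_map, (Subgroup.map_eq_bot_iff Δ).2 (by rintro _ ⟨w, rfl⟩; rfl), bot_sup_eq]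
  exact gen

theorem EE_mem (e : EE) : e.1.right ∈ Spor.M23 := by rw [← EE_map]; exact ⟨e, e.2, rfl⟩

noncomputable def πE : EE →* Equiv.Perm GolayPt := SemidirectProduct.rightHom.comp EE.subtype

noncomputable def τE (w : GolayPt → ZMod 2) : EE := ⟨ι w, mem_sup_left ⟨w, rfl⟩⟩

theorem XE : Ext πE τE where
  add v w := Subtype.ext (ι_add v w)
  conj e w := Subtype.ext (ι_conj (EE_mem e) w)
  ker e := by
    refine ⟨fun h => ?_, by rintro ⟨w, rfl⟩; rfl⟩
    have cj : ∀ a : Γ, a.right ∈ Spor.M23 → ∀ n ∈ Δ, a * n * a⁻¹ ∈ Δ := by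
      rintro a ha _ ⟨w, rfl⟩
      exact ⟨_, ι_conj ha w⟩
    obtain ⟨w, hw⟩ := core prs (Δ := Δ) (y := y) (fun j n => ⟨cj _ (gmem j) n, fun hn => by
        have := cj (y j)⁻¹ (inv_mem (gmem j)) _ hn
        rwa [show ∀ a b : Γ, a⁻¹ * (a * b * a⁻¹) * a⁻¹⁻¹ = b from fun a b => by group] at this⟩)
      SemidirectProduct.rightHom (by rintro _ ⟨w, rfl⟩; rfl) (fun w hw => by
        obtain ⟨r, hr, rfl⟩ := Rex w hw
        exact ⟨_, (y_rel hr).symm⟩) (by rw [← card, ← gen]; rfl) e.2 h
    exact ⟨w, Subtype.ext hw⟩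

theorem rE : πE.range = Spor.M23 := by
  rw [πE, MonoidHom.range_comp, range_subtype, EE_map]

theorem nsE (H : Subgroup EE) (h1 : H ⊓ πE.ker = ⊥) : H ⊔ πE.ker ≠ ⊤ := by
  have m : ∀ j, y (j % 4) ∈ EE := fun j => mem_sup_right (by
    have := mem_genW y (List.mem_map_of_mem (f := fun k => [2 * k]) (List.mem_range.2 (Nat.mod_lt j (by norm_num : 0 < 4))))
    rwa [wprod_cons, wprod_nil, mul_one, letter_even] at this)
  have m' : ∀ j, (if j < 4 then y j else 1) ∈ EE := fun j => by
    split_ifs with h
    · have := m j; rwa [Nat.mod_eq_of_lt h] at this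
    · exact one_mem _
  refine nonsplit (c := fun e d => cΓ e.1 d) XE ⟨fun e f d _ _ _ => cΓ_mul e.1 f.1 d, CΓ.tau⟩
    (x := fun j => ⟨_, m' j⟩) (fun j => ?_) (fun r hr => Subtype.ext ?_) H h1
  · show SemidirectProduct.rightHom (if j < 4 then y j else 1) = g j
    split_ifs with h
    · rfl
    · obtain ⟨k, rfl⟩ := Nat.exists_eq_add_of_le' (not_lt.1 h)
      rfl
  · refine (map_wprod EE.subtype _ _).trans (Eq.trans ?_ (y_rel hr))
    unfold wprod
    congr 1
    refine List.map_congr_left fun a ha => ?_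
    have := (Rlt r hr).2 a ha
    simp only [letter, coe_subtype, if_pos (show a / 2 < 4 by omega)]

theorem exi : ∃ (E : Type) (_ : Group E) (_ : Finite E) (N : Subgroup E) (_ : N.Normal)
      (φ : E ⧸ N ≃* Spor.M23) (θ : (GolayPt → ZMod 2) →+ Additive N),
      Function.Surjective θ ∧ (∀ w, θ w = 0 ↔ Z w) ∧
      (∀ (g : E) (w : GolayPt → ZMod 2),
        ((θ (w ∘ ⇑(((φ (QuotientGroup.mk g) : Spor.M23) : Equiv.Perm GolayPt)⁻¹))).toMul : E)
          = g * ((θ w).toMul : E) * g⁻¹) ∧
      ∀ H : Subgroup E, H ⊓ N = ⊥ → H ⊔ N ≠ ⊤ := by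
  have : Finite Γ := Finite.of_equiv _ SemidirectProduct.equivProd.symm
  refine ⟨EE, inferInstance, inferInstance, πE.ker, inferInstance,
    (QuotientGroup.quotientKerEquivRange πE).trans (MulEquiv.subgroupCongr rE),
    AddMonoidHom.mk' (fun w => Additive.ofMul ⟨τE w, XE.one w⟩) (fun v w => Subtype.ext (XE.add v w)), ?_, fun w => ?_,
    fun e w => XE.conj e w, nsE⟩
  · intro n
    obtain ⟨w, hw⟩ := (XE.ker _).1 n.toMul.2
    exact ⟨w, Subtype.ext hw⟩
  · rw [← ι_one]
    exact ⟨fun h => congrArg (fun n => n.toMul.1.1) h, fun h => Subtype.ext (Subtype.ext h)⟩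

end CfsgH7.Ex.M23
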